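import Cfsg.Agent.Helper36.D4Inv.Defs

/-!
Helper36: the involutions of `³D₄(q)`, `q` even: the identities among the products of positive root elements
(collection process in characteristic two).
-/

set_option autoImplicit false
set_option linter.unusedSimpArgs false
set_option maxRecDepth 100000

namespace Cfsg.Agent.Helper36.D4Inv

open Cfsg Cfsg.Lie Cfsg.Agent.Helper18 Cfsg.Agent.Helper18.Tw Cfsg.Agent.Helper36.D4Rel

section

variable {K : Type*} [Field K] [CharP K 2]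

local notation "x" => Cfsg.Agent.Helper18.xGL chevD4 K

/-! ### untwisted identities -/

set_option maxHeartbeats 4000000 in
theorem Qv_mul_A (s18 s13 s12 a14 a19 a16 a15 a21 a20 a17 a22 a23 : K) :
    Qv a14 a19 a16 a15 a21 a20 a17 a22 a23 * A s18 s13 s12 =
      A s18 s13 s12 * Qv a14 (a14*s18 + a19) (a14*s13 + a16) (a14*s12 + a15)
        (a14*s13*s18 + a16*s18 + a19*s13 + a21) (a14*s12*s18 + a15*s18 + a19*s12 + a20)
        (a14*s12*s13 + a15*s13 + a16*s12 + a17)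
        (a14*s12*s13*s18 + a15*s13*s18 + a16*s12*s18 + a17*s18 + a19*s12*s13 + a20*s13 + a21*s12 + a22)
        (a14*a15*s13*s18 + a14*a16*s12*s18 + a14*a19*s12*s13 + a14^2*s12*s13*s18 + a15*a16*s18 + a15*a19*s13 +
          a16*a19*s12 + a23) := by
  unfold Qv A
  simp only [mul_assoc, add_18, add_18', add_13, add_13', add_12, add_12', add_14, add_14', add_19, add_19', add_16, add_16', add_15, add_15', add_21, add_21', add_20, add_20', add_17, add_17', add_22, add_22', add_23, add_23', sw_13_18, sw_13_18', sw_12_18, sw_12_18', sw_12_13, sw_12_13', sw_14_18, sw_14_18', sw_14_13, sw_14_13', sw_14_12, sw_14_12', sw_19_18, sw_19_18', sw_19_13, sw_19_13', sw_19_12, sw_19_12', sw_19_14, sw_19_14', sw_16_18, sw_16_18', sw_16_13, sw_16_13', sw_16_12, sw_16_12', sw_16_14, sw_16_14', sw_16_19, sw_16_19', sw_15_18, sw_15_18', sw_15_13, sw_15_13', sw_15_12, sw_15_12', sw_15_14, sw_15_14', sw_15_19, sw_15_19', sw_15_16, sw_15_16', sw_21_18,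 sw_21_18', sw_21_13, sw_21_13', sw_21_12, sw_21_12', sw_21_14, sw_21_14', sw_21_19, sw_21_19', sw_21_16, sw_21_16', sw_21_15, sw_21_15', sw_20_18, sw_20_18', sw_20_13, sw_20_13', sw_20_12, sw_20_12', sw_20_14, sw_20_14', sw_20_19, sw_20_19', sw_20_16, sw_20_16', sw_20_15, sw_20_15', sw_20_21, sw_20_21', sw_17_18, sw_17_18', sw_17_13, sw_17_13', sw_17_12, sw_17_12', sw_17_14, sw_17_14', sw_17_19, sw_17_19', sw_17_16, sw_17_16', sw_17_15, sw_17_15', sw_17_21, sw_17_21', sw_17_20, sw_17_20', sw_22_18, sw_22_18', sw_22_13, sw_22_13', sw_22_12, sw_22_12', sw_22_14, sw_22_14', sw_22_19, sw_22_19', sw_22_16, sw_22_16', sw_22_15, sw_22_15', sw_22_21, sw_22_21', sw_22_20, sw_22_20', sw_22_17, sw_22_17', sw_23_18, sw_23_18', sw_23_13, sw_23_13', sw_23_12, sw_23_12', sw_23_14, sw_23_14', sw_23_19, sw_23_19', sw_23_16, sw_23_16', sw_23_15, sw_23_15', sw_23_21, sw_23_21', sw_23_20, sw_23_20', sw_23_17, sw_23_17', sw_23_22, sw_23_22']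
  ring_nf

set_option maxHeartbeats 4000000 in
theorem Qv_mul_Qv (a14 a19 a16 a15 a21 a20 a17 a22 a23 b14 b19 b16 b15 b21 b20 b17 b22 b23 : K) :
    Qv a14 a19 a16 a15 a21 a20 a17 a22 a23 * Qv b14 b19 b16 b15 b21 b20 b17 b22 b23 =
      Qv (a14 + b14) (a19 + b19) (a16 + b16) (a15 + b15) (a21 + b21) (a20 + b20) (a17 + b17) (a22 + b22)
        (a17*b19 + a20*b16 + a21*b15 + a22*b14 + a23 + b23) := by
  unfold Qv
  simp only [mul_assoc, add_18, add_18', add_13, add_13', add_12, add_12', add_14, add_14', add_19, add_19', add_16, add_16', add_15, add_15', add_21, add_21', add_20, add_20', add_17, add_17', add_22, add_22', add_23, add_23', sw_13_18, sw_13_18', sw_12_18, sw_12_18', sw_12_13, sw_12_13', sw_14_18, sw_14_18', sw_14_13, sw_14_13', sw_14_12, sw_14_12', sw_19_18, sw_19_18', sw_19_13, sw_19_13', sw_19_12, sw_19_12', sw_19_14, sw_19_14', sw_16_18, sw_16_18', sw_16_13, sw_16_13', sw_16_12, sw_16_12', sw_16_14, sw_16_14', sw_16_19,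 sw_16_19', sw_15_18, sw_15_18', sw_15_13, sw_15_13', sw_15_12, sw_15_12', sw_15_14, sw_15_14', sw_15_19, sw_15_19', sw_15_16, sw_15_16', sw_21_18, sw_21_18', sw_21_13, sw_21_13', sw_21_12, sw_21_12', sw_21_14, sw_21_14', sw_21_19, sw_21_19', sw_21_16, sw_21_16', sw_21_15, sw_21_15', sw_20_18, sw_20_18', sw_20_13, sw_20_13', sw_20_12, sw_20_12', sw_20_14, sw_20_14', sw_20_19, sw_20_19', sw_20_16, sw_20_16', sw_20_15, sw_20_15', sw_20_21, sw_20_21', sw_17_18, sw_17_18', sw_17_13, sw_17_13', sw_17_12, sw_17_12', sw_17_14, sw_17_14', sw_17_19, sw_17_19', sw_17_16, sw_17_16', sw_17_15, sw_17_15', sw_17_21, sw_17_21', sw_17_20, sw_17_20', sw_22_18, sw_22_18', sw_22_13, sw_22_13', sw_22_12, sw_22_12', sw_22_14, sw_22_14', sw_22_19, sw_22_19', sw_22_16, sw_22_16', sw_22_15, sw_22_15', sw_22_21, sw_22_21', sw_22_20, sw_22_20', sw_22_17, sw_22_17', sw_23_18, sw_23_18', sw_23_13, sw_23_13', sw_23_12, sw_23_12', sw_23_14, sw_23_14', sw_23_19,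 sw_23_19', sw_23_16, sw_23_16', sw_23_15, sw_23_15', sw_23_21, sw_23_21', sw_23_20, sw_23_20', sw_23_17, sw_23_17', sw_23_22, sw_23_22']
  ring_nf

set_option maxHeartbeats 4000000 in
/-- the product of the images of the factors of `Qv` under the reflection in `p₁, p₃, p₄` -/
theorem Qv_perm (a14 a19 a16 a15 a21 a20 a17 a22 a23 : K) :
    x 22 a14 * x 17 a19 * x 20 a16 * x 21 a15 * x 15 a21 * x 16 a20 * x 19 a17 * x 14 a22 * x 23 a23 =
      Qv a22 a17 a20 a21 a15 a16 a19 a14 (a14*a22 + a15*a21 + a16*a20 + a17*a19 + a23) := by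
  unfold Qv
  simp only [mul_assoc, add_18, add_18', add_13, add_13', add_12, add_12', add_14, add_14', add_19, add_19', add_16, add_16', add_15, add_15', add_21, add_21', add_20, add_20', add_17, add_17', add_22, add_22', add_23, add_23', sw_13_18, sw_13_18', sw_12_18, sw_12_18', sw_12_13, sw_12_13', sw_14_18, sw_14_18', sw_14_13, sw_14_13', sw_14_12, sw_14_12', sw_19_18, sw_19_18', sw_19_13, sw_19_13', sw_19_12, sw_19_12', sw_19_14, sw_19_14', sw_16_18, sw_16_18', sw_16_13, sw_16_13', sw_16_12, sw_16_12', sw_16_14, sw_16_14', sw_16_19, sw_16_19', sw_15_18, sw_15_18', sw_15_13, sw_15_13', sw_15_12, sw_15_12', sw_15_14, sw_15_14', sw_15_19, sw_15_19', sw_15_16, sw_15_16', sw_21_18, sw_21_18', sw_21_13, sw_21_13', sw_21_12, sw_21_12', sw_21_14, sw_21_14', sw_21_19, sw_21_19', sw_21_16, sw_21_16', sw_21_15, sw_21_15', sw_20_18, sw_20_18', sw_20_13, sw_20_13', sw_20_12, sw_20_12', sw_20_14, sw_20_14', sw_20_19, sw_20_19', sw_20_16,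 sw_20_16', sw_20_15, sw_20_15', sw_20_21, sw_20_21', sw_17_18, sw_17_18', sw_17_13, sw_17_13', sw_17_12, sw_17_12', sw_17_14, sw_17_14', sw_17_19, sw_17_19', sw_17_16, sw_17_16', sw_17_15, sw_17_15', sw_17_21, sw_17_21', sw_17_20, sw_17_20', sw_22_18, sw_22_18', sw_22_13, sw_22_13', sw_22_12, sw_22_12', sw_22_14, sw_22_14', sw_22_19, sw_22_19', sw_22_16, sw_22_16', sw_22_15, sw_22_15', sw_22_21, sw_22_21', sw_22_20, sw_22_20', sw_22_17, sw_22_17', sw_23_18, sw_23_18', sw_23_13, sw_23_13', sw_23_12, sw_23_12', sw_23_14, sw_23_14', sw_23_19, sw_23_19', sw_23_16, sw_23_16', sw_23_15, sw_23_15', sw_23_21, sw_23_21', sw_23_20, sw_23_20', sw_23_17, sw_23_17', sw_23_22, sw_23_22']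
  ring_nf

theorem A_mul_A (s1 s3 s4 t1 t3 t4 : K) : A s1 s3 s4 * A t1 t3 t4 = A (s1 + t1) (s3 + t3) (s4 + t4) := by
  unfold A
  simp only [mul_assoc, add_18, add_18', add_13, add_13', add_12, add_12', add_14, add_14', add_19, add_19', add_16, add_16', add_15, add_15', add_21, add_21', add_20, add_20', add_17, add_17', add_22, add_22', add_23, add_23', sw_13_18, sw_13_18', sw_12_18, sw_12_18', sw_12_13, sw_12_13', sw_14_18, sw_14_18', sw_14_13, sw_14_13', sw_14_12, sw_14_12', sw_19_18, sw_19_18', sw_19_13, sw_19_13', sw_19_12, sw_19_12', sw_19_14, sw_19_14', sw_16_18, sw_16_18', sw_16_13, sw_16_13', sw_16_12, sw_16_12', sw_16_14, sw_16_14', sw_16_19, sw_16_19', sw_15_18, sw_15_18', sw_15_13, sw_15_13', sw_15_12, sw_15_12', sw_15_14, sw_15_14', sw_15_19, sw_15_19', sw_15_16, sw_15_16', sw_21_18, sw_21_18', sw_21_13, sw_21_13', sw_21_12, sw_21_12', sw_21_14, sw_21_14', sw_21_19, sw_21_19', sw_21_16, sw_21_16', sw_21_15, sw_21_15',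 sw_20_18, sw_20_18', sw_20_13, sw_20_13', sw_20_12, sw_20_12', sw_20_14, sw_20_14', sw_20_19, sw_20_19', sw_20_16, sw_20_16', sw_20_15, sw_20_15', sw_20_21, sw_20_21', sw_17_18, sw_17_18', sw_17_13, sw_17_13', sw_17_12, sw_17_12', sw_17_14, sw_17_14', sw_17_19, sw_17_19', sw_17_16, sw_17_16', sw_17_15, sw_17_15', sw_17_21, sw_17_21', sw_17_20, sw_17_20', sw_22_18, sw_22_18', sw_22_13, sw_22_13', sw_22_12, sw_22_12', sw_22_14, sw_22_14', sw_22_19, sw_22_19', sw_22_16, sw_22_16', sw_22_15, sw_22_15', sw_22_21, sw_22_21', sw_22_20, sw_22_20', sw_22_17, sw_22_17', sw_23_18, sw_23_18', sw_23_13, sw_23_13', sw_23_12, sw_23_12', sw_23_14, sw_23_14', sw_23_19, sw_23_19', sw_23_16, sw_23_16', sw_23_15, sw_23_15', sw_23_21, sw_23_21', sw_23_20, sw_23_20', sw_23_17, sw_23_17', sw_23_22, sw_23_22']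

theorem Qv_zero : Qv (0 : K) 0 0 0 0 0 0 0 0 = 1 := by
  unfold Qv
  simp only [zero_14, zero_19, zero_16, zero_15, zero_21, zero_20, zero_17, zero_22, zero_23, mul_one]

theorem A_zero : A (0 : K) 0 0 = 1 := by
  unfold A
  simp only [zero_18, zero_13, zero_12, mul_one]

theorem A_mul_self (s1 s3 s4 : K) : A s1 s3 s4 * A s1 s3 s4 = 1 := by
  rw [A_mul_A, CharTwo.add_self_eq_zero, CharTwo.add_self_eq_zero, CharTwo.add_self_eq_zero, A_zero]

theorem Qv_last (a14 a19 a16 a15 a21 a20 a17 a22 a23 c : K) :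
    Qv a14 a19 a16 a15 a21 a20 a17 a22 a23 * x 23 c = Qv a14 a19 a16 a15 a21 a20 a17 a22 (a23 + c) := by
  unfold Qv
  rw [mul_assoc, add_23]

end

section

variable {K : Type*} [Field K] [CharP K 2] (f : K ≃+* K)

local notation "x" => Cfsg.Agent.Helper18.xGL chevD4 K

/-! ### twisted identities -/

theorem At_zero : At f 0 = 1 := by
  unfold At
  rw [map_zero, map_zero, A_zero]

theorem At_mul_self (s : K) : At f s * At f s = 1 := A_mul_self _ _ _

theorem At_inv (s : K) : (At f s)⁻¹ = At f s := inv_eq_of_mul_eq_one_right (At_mul_self f s)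

theorem Qt_zero : Qt f 0 0 0 0 0 = 1 := by
  unfold Qt
  simp only [map_zero, Qv_zero]

theorem Qt_23 (z : K) : Qt f 0 0 0 0 z = x 23 z := by
  unfold Qt Qv
  simp only [map_zero, zero_14, zero_19, zero_16, zero_15, zero_21, zero_20, zero_17, zero_22, one_mul]

theorem Qt_22_23 (v3 z : K) : Qt f 0 0 0 v3 z = x 22 v3 * x 23 z := by
  unfold Qt Qv
  simp only [map_zero, zero_14, zero_19, zero_16, zero_15, zero_21, zero_20, zero_17, one_mul]

theorem Qt_19 (v1 : K) : Qt f 0 v1 0 0 0 = x 19 v1 * x 16 (f v1) * x 15 (f (f v1)) := by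
  unfold Qt Qv
  simp only [map_zero, zero_14, zero_21, zero_20, zero_17, zero_22, zero_23, one_mul, mul_one]

theorem Qt_21 (v2 : K) : Qt f 0 0 v2 0 0 = x 21 v2 * x 20 (f (f v2)) * x 17 (f v2) := by
  unfold Qt Qv
  simp only [map_zero, zero_14, zero_19, zero_16, zero_15, zero_22, zero_23, one_mul, mul_one]

theorem Qt_last (v0 v1 v2 v3 z c : K) : Qt f v0 v1 v2 v3 z * x 23 c = Qt f v0 v1 v2 v3 (z + c) := Qv_last _ _ _ _ _ _ _ _ _ _

variable (hf3 : ∀ t, f (f (f t)) = t)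

include hf3 in
theorem Qt_mul_At (v0 v1 v2 v3 z s : K) (h0 : f v0 = v0) :
    Qt f v0 v1 v2 v3 z * At f s = At f s * Qt f v0 (v1 + s * v0) (v2 + s * f v1 + f s * v1 + s * f s * v0)
      (v3 + tr f (f (f s) * v2) + tr f (f s * f (f s) * v1) + nm f s * v0)
      (z + tr f (f (f s) * v1 * f v1) + v0 * tr f (f s * f (f s) * v1) + nm f s * v0 ^ 2) := by
  unfold Qt At
  rw [Qv_mul_A]
  unfold tr nm
  simp only [map_add, map_mul, hf3, h0]
  ring_nf

include hf3 in
theorem Qt_mul_Qt (v0 v1 v2 v3 z w0 w1 w2 w3 y : K) :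
    Qt f v0 v1 v2 v3 z * Qt f w0 w1 w2 w3 y =
      Qt f (v0 + w0) (v1 + w1) (v2 + w2) (v3 + w3) (z + y + v3 * w0 + tr f (w1 * f v2)) := by
  unfold Qt
  rw [Qv_mul_Qv]
  unfold tr
  simp only [map_add, map_mul, hf3]
  ring_nf

include hf3 in
theorem Qt_perm (v0 v1 v2 v3 z : K) :
    x 22 v0 * x 17 v1 * x 20 (f v1) * x 21 (f (f v1)) * x 15 v2 * x 16 (f (f v2)) * x 19 (f v2) * x 14 v3 * x 23 z =
      Qt f v3 (f v2) (f (f v1)) v0 (z + v0 * v3 + tr f (v1 * f v2)) := by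
  rw [Qv_perm]
  unfold Qt tr
  simp only [map_add, map_mul, hf3]
  ring_nf

include hf3 in
theorem Qt_mul_self (v0 v1 v2 v3 z : K) :
    Qt f v0 v1 v2 v3 z * Qt f v0 v1 v2 v3 z = x 23 (v0 * v3 + tr f (v1 * f v2)) := by
  rw [Qt_mul_Qt f hf3, CharTwo.add_self_eq_zero, CharTwo.add_self_eq_zero, CharTwo.add_self_eq_zero,
    CharTwo.add_self_eq_zero, CharTwo.add_self_eq_zero, zero_add, Qt_23, mul_comm v3 v0]

end

end Cfsg.Agent.Helper36.D4Inv
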