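import Cfsg.Agent.Helper36.D4Rel

/-!
Helper36: the involutions of `³D₄(q)`, `q` even: notation.
`A s₁ s₃ s₄ = x_{p₁}(s₁) x_{p₃}(s₃) x_{p₄}(s₄)`, `Qv a = ` the ordered product over the roots with `p₂`-coefficient
at least one (the unipotent radical of the parabolic subgroup of type `A₁³`), and their twisted forms `At`, `Qt`.
-/

set_option autoImplicit false
set_option maxRecDepth 100000

namespace Cfsg.Agent.Helper36.D4Inv

open Cfsg Cfsg.Lie Cfsg.Agent.Helper18 Cfsg.Agent.Helper18.Tw Cfsg.Agent.Helper19.Twist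

section

variable {K : Type*} [Field K]

local notation "x" => Cfsg.Agent.Helper18.xGL chevD4 K

/-- `x_{p₁}(s₁) x_{p₃}(s₃) x_{p₄}(s₄)` -/
noncomputable def A (s1 s3 s4 : K) : GL chevD4.Idx K := x 18 s1 * x 13 s3 * x 12 s4

/-- the ordered product over the roots `14, 19, 16, 15, 21, 20, 17, 22, 23` -/
noncomputable def Qv (a14 a19 a16 a15 a21 a20 a17 a22 a23 : K) : GL chevD4.Idx K :=
  x 14 a14 * x 19 a19 * x 16 a16 * x 15 a15 * x 21 a21 * x 20 a20 * x 17 a17 * x 22 a22 * x 23 a23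

variable (f : K ≃+* K)

/-- the twisted form of `A`: `x_a(s)` -/
noncomputable def At (s : K) : GL chevD4.Idx K := A s (f s) (f (f s))

/-- the twisted form of `Qv` -/
noncomputable def Qt (v0 v1 v2 v3 z : K) : GL chevD4.Idx K :=
  Qv v0 v1 (f v1) (f (f v1)) v2 (f (f v2)) (f v2) v3 z

theorem At_eq_xa (s : K) : At f s = xa f s := rfl

/-- the trace form of the cubic extension -/
def tr (a : K) : K := a + f a + f (f a)

/-- the norm form of the cubic extension -/
def nm (a : K) : K := a * f a * f (f a)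

/-- conjugacy in `³D₄(q)` of elements of the ambient group -/
def Cj (q : ℕ) (u u' : GL chevD4.Idx K) : Prop := ∃ g ∈ twistedD4 K q, g * u * g⁻¹ = u'

/-- the long root involution -/
noncomputable def zL : GL chevD4.Idx K := x 23 1

/-- the short root involution -/
noncomputable def zS : GL chevD4.Idx K := x 19 1 * x 16 1 * x 15 1

/-- conjugate to one of the two representatives -/
def Good (q : ℕ) (u : GL chevD4.Idx K) : Prop := Cj q u (zL (K := K)) ∨ Cj q u (zS (K := K))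

theorem Cj.refl (q : ℕ) (u : GL chevD4.Idx K) : Cj q u u := ⟨1, one_mem _, by simp⟩

theorem Cj.symm {q : ℕ} {u u' : GL chevD4.Idx K} (h : Cj q u u') : Cj q u' u := by
  obtain ⟨g, hg, rfl⟩ := h
  exact ⟨g⁻¹, inv_mem hg, by group⟩

theorem Cj.trans {q : ℕ} {u u' u'' : GL chevD4.Idx K} (h : Cj q u u') (h' : Cj q u' u'') : Cj q u u'' := by
  obtain ⟨g, hg, rfl⟩ := h
  obtain ⟨g', hg', rfl⟩ := h'
  exact ⟨g' * g, mul_mem hg' hg, by group⟩

theorem Good.of_cj {q : ℕ} {u u' : GL chevD4.Idx K} (h : Cj q u u') (h' : Good q u') : Good q u := by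
  rcases h' with h' | h'
  · exact Or.inl (h.trans h')
  · exact Or.inr (h.trans h')

/-- conjugation by the inverse: from `u * g = g * u'` -/
theorem Cj.of_mul_eq {q : ℕ} {u u' g : GL chevD4.Idx K} (hg : g ∈ twistedD4 K q) (h : u * g = g * u') :
    Cj q u u' := by
  refine ⟨g⁻¹, inv_mem hg, ?_⟩
  rw [inv_inv, mul_assoc, h]
  group

/-- from `g * u = u' * g` -/
theorem Cj.of_mul_eq' {q : ℕ} {u u' g : GL chevD4.Idx K} (hg : g ∈ twistedD4 K q) (h : g * u = u' * g) :
    Cj q u u' := by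
  refine ⟨g, hg, ?_⟩
  rw [h]
  group

theorem Cj.mul_self {q : ℕ} {u u' : GL chevD4.Idx K} (h : Cj q u u') (hu : u * u = 1) : u' * u' = 1 := by
  obtain ⟨g, -, rfl⟩ := h
  calc g * u * g⁻¹ * (g * u * g⁻¹) = g * (u * u) * g⁻¹ := by group
    _ = 1 := by rw [hu]; group

theorem Cj.ne_one {q : ℕ} {u u' : GL chevD4.Idx K} (h : Cj q u u') (hu : u ≠ 1) : u' ≠ 1 := by
  obtain ⟨g, -, rfl⟩ := h
  intro h1
  apply hu
  calc u = g⁻¹ * (g * u * g⁻¹) * g := by group
    _ = 1 := by rw [h1]; group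

theorem Cj.mem {q : ℕ} {u u' : GL chevD4.Idx K} (h : Cj q u u') (hu : u ∈ twistedD4 K q) : u' ∈ twistedD4 K q := by
  obtain ⟨g, hg, rfl⟩ := h
  exact mul_mem (mul_mem hg hu) (inv_mem hg)

end

end Cfsg.Agent.Helper36.D4Inv
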