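import Cfsg.Agent.Helper36.D4Inv.Defs
import Cfsg.Agent.Helper19.Twist.Frob

/-!
Helper36: the involutions of `³D₄(q)`, `q` even: facts on the field with `q³` elements and the `q`-power map.
-/

set_option autoImplicit false
set_option maxRecDepth 100000

namespace Cfsg.Agent.Helper36.D4Inv

open Cfsg Cfsg.Lie

section

variable {K : Type*} [Field K] [Fintype K] [CharP K 2] {q : ℕ}

/-- `q` is a power of two -/
theorem isPrimePow_q (hK : Fintype.card K = q ^ 3) : IsPrimePow q := by
  obtain ⟨n, hp, hn⟩ := FiniteField.card K 2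
  have h1 : q ^ 3 = 2 ^ (n : ℕ) := by rw [← hK, hn]
  have h2 : q ∣ 2 ^ (n : ℕ) := by
    rw [← h1]
    exact dvd_pow_self q (by norm_num)
  obtain ⟨m, -, hm⟩ := (Nat.dvd_prime_pow Nat.prime_two).mp h2
  have hm0 : m ≠ 0 := by
    rintro rfl
    rw [pow_zero] at hm
    rw [hm, one_pow] at h1
    have : 2 ≤ 2 ^ (n : ℕ) := by
      calc 2 = 2 ^ 1 := (pow_one 2).symm
        _ ≤ 2 ^ (n : ℕ) := Nat.pow_le_pow_right (by norm_num) n.pos
    omega
  rw [hm]
  exact ⟨2, m, Nat.prime_two.prime, Nat.pos_of_ne_zero hm0, rfl⟩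

variable (f : K ≃+* K) (hf : ∀ t, f t = t ^ q)

include hf in
theorem f_cube (hK : Fintype.card K = q ^ 3) (t : K) : f (f (f t)) = t := by
  rw [hf, hf, hf, ← pow_mul, ← pow_mul]
  have e : q * (q * q) = Fintype.card K := by rw [hK]; ring
  rw [e]
  exact FiniteField.pow_card t

omit [Fintype K] in
/-- square roots of the elements of the fixed field are in the fixed field -/
theorem sqrt_fix [Finite K] (c : K) (hc : f c = c) : ∃ r : K, f r = r ∧ r * r = c := by
  have hinj : Function.Injective (fun t : K => t * t) := by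
    intro a b hab
    have h0 : (a + b) * (a + b) = 0 := by
      have h2 : (2 : K) = 0 := CharTwo.two_eq_zero
      have hab' : a * a = b * b := hab
      calc (a + b) * (a + b) = a * a + b * b + 2 * (a * b) := by ring
        _ = b * b + b * b + 0 * (a * b) := by rw [hab', h2]
        _ = 0 := by rw [CharTwo.add_self_eq_zero]; ring
    have h1 : a + b = 0 := by
      rcases mul_self_eq_zero.mp h0 with h
      exact h
    exact CharTwo.add_eq_zero.mp h1
  obtain ⟨r, hr⟩ := (Finite.injective_iff_surjective.mp hinj) c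
  refine ⟨r, ?_, hr⟩
  apply hinj
  show f r * f r = r * r
  have hr' : r * r = c := hr
  rw [← map_mul, hr', hc]

omit [Fintype K] [CharP K 2] in
theorem tr_fix (hf3 : ∀ t, f (f (f t)) = t) (a : K) : f (tr f a) = tr f a := by
  unfold tr
  rw [map_add, map_add, hf3]
  ring

omit [Fintype K] [CharP K 2] in
theorem nm_fix (hf3 : ∀ t, f (f (f t)) = t) (a : K) : f (nm f a) = nm f a := by
  unfold nm
  rw [map_mul, map_mul, hf3]
  ring

omit [Fintype K] [CharP K 2] in
theorem nm_ne_zero (a : K) (ha : a ≠ 0) : nm f a ≠ 0 := by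
  unfold nm
  exact mul_ne_zero (mul_ne_zero ha ((map_ne_zero f).mpr ha)) ((map_ne_zero f).mpr ((map_ne_zero f).mpr ha))

omit [Fintype K] in
/-- the trace of an element of the fixed field -/
theorem tr_of_fix (c : K) (hc : f c = c) : tr f c = c := by
  unfold tr
  rw [hc, hc, CharTwo.add_self_eq_zero, zero_add]

omit [Fintype K] [CharP K 2] in
theorem tr_add (a b : K) : tr f (a + b) = tr f a + tr f b := by
  unfold tr
  simp only [map_add]
  ring

omit [Fintype K] [CharP K 2] in
theorem tr_mul_fix (c a : K) (hc : f c = c) : tr f (c * a) = c * tr f a := by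
  unfold tr
  simp only [map_mul, hc]
  ring

omit [Fintype K] [CharP K 2] in
theorem tr_f (hf3 : ∀ t, f (f (f t)) = t) (a : K) : tr f (f a) = tr f a := by
  unfold tr
  rw [hf3]
  ring

omit [Fintype K] in
/-- additive Hilbert 90 for the cubic extension, in characteristic two -/
theorem add_f_of_tr_zero (ω : K) (h : tr f ω = 0) : f ω + f (f ω) = ω := by
  unfold tr at h
  have h1 : ω + (f ω + f (f ω)) = 0 := by rw [← add_assoc]; exact h
  exact (CharTwo.add_eq_zero.mp h1).symm

end

end Cfsg.Agent.Helper36.D4Inv
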