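import Cfsg.Agent.Helper36.D4Inv.Defs
import Cfsg.Agent.Helper22.D4NC

/-!
Helper36, S2183 piece (NC): the long root involution and the short root involution are not conjugate in `GL₂₈(K)`.
-/

set_option autoImplicit false
set_option maxRecDepth 100000

namespace Cfsg.Agent.Helper36.D4Inv

open Cfsg Cfsg.Lie Cfsg.Agent.Helper18 Cfsg.Agent.Helper18.Tw Cfsg.Agent.Helper19.Twist

section

variable {K : Type*} [Field K] [CharP K 2]

local notation "x" => Cfsg.Agent.Helper18.xGL chevD4 K

/-- PIECE NC: `rank (x₂₃(1) - 1) = 10` and `rank (x₁₉(1) x₁₆(1) x₁₅(1) - 1) = 12` (both matrices have entries `0, 1`: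
they are the images of matrices over `ZMod 2`; e.g. `x₂₃(1) - 1 = A * B` with `A` of ten columns, and a
`12 × 12` minor of the other equal to `1`, both by `decide` over `ZMod 2` and transfer along `ZMod 2 →+* K`) -/
theorem not_conj : ¬ ∃ g : GL chevD4.Idx K, g * x 23 1 * g⁻¹ = x 19 1 * x 16 1 * x 15 1 :=
  Cfsg.Agent.Helper22.D4NC.not_conj_GL K

end

end Cfsg.Agent.Helper36.D4Inv
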