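import Cfsg.Agent.Helper36.D4Inv.Defs
import Cfsg.Agent.Helper19.Twist.UD4b

/-!
Helper36, S2183 piece (NF): normal forms in `U¹ = U ∩ ³D₄(q)`, `q` even.
(filled by helper29)
-/

set_option autoImplicit false
set_option maxRecDepth 100000

namespace Cfsg.Agent.Helper36.D4Inv

open Cfsg Cfsg.Lie Cfsg.Agent.Helper18 Cfsg.Agent.Helper18.Tw Cfsg.Agent.Helper19.Twist
  Cfsg.Agent.S1081 Cfsg.Agent.Helper40.GraphAut

section

variable {K : Type*} [Field K]

local notation "x" => Cfsg.Agent.Helper18.xGL chevD4 K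

/-- the coefficient family with prescribed values at the twelve positive roots -/
def tOf (a18 a13 a12 a14 a19 a16 a15 a21 a20 a17 a22 a23 : K) : ℕ → K := fun r =>
  if r = 18 then a18 else if r = 13 then a13 else if r = 12 then a12 else if r = 14 then a14
  else if r = 19 then a19 else if r = 16 then a16 else if r = 15 then a15 else if r = 21 then a21
  else if r = 20 then a20 else if r = 17 then a17 else if r = 22 then a22 else if r = 23 then a23 else 0

theorem tOf_not_mem (a18 a13 a12 a14 a19 a16 a15 a21 a20 a17 a22 a23 : K) (r : ℕ) (hr : r ∉ ClD4.flatten) :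
    tOf a18 a13 a12 a14 a19 a16 a15 a21 a20 a17 a22 a23 r = 0 := by
  have h : ClD4.flatten = [18, 13, 12, 14, 19, 16, 15, 21, 20, 17, 22, 23] := rfl
  rw [h] at hr
  simp only [List.mem_cons, List.not_mem_nil, or_false, not_or] at hr
  obtain ⟨h1, h2, h3, h4, h5, h6, h7, h8, h9, h10, h11, h12⟩ := hr
  simp only [tOf, h1, h2, h3, h4, h5, h6, h7, h8, h9, h10, h11, h12, if_false]

theorem x_zero' (r : ℕ) (hr : r < chevD4.nroots) : x r 0 = 1 := by
  have h := Cfsg.Agent.Helper19.Poinc.xGL_mul chevD4 memD4 (F := K) r hr 0 0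
  rw [add_zero] at h
  exact (mul_eq_left (a := x r 0) (b := x r 0)).mp h

theorem pwG_ClD4 (t : ℕ → K) :
    pwG chevD4 K ClD4.flatten t =
      x 18 (t 18) * x 13 (t 13) * x 12 (t 12) *
        (x 14 (t 14) * x 19 (t 19) * x 16 (t 16) * x 15 (t 15) * x 21 (t 21) * x 20 (t 20) * x 17 (t 17) *
          x 22 (t 22) * x 23 (t 23)) := by
  have h : ClD4.flatten = [18, 13, 12, 14, 19, 16, 15, 21, 20, 17, 22, 23] := rfl
  rw [h]
  simp only [pwG, List.map_cons, List.map_nil, List.prod_cons, List.prod_nil, mul_one, mul_assoc]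

theorem pwG_tOf (a18 a13 a12 a14 a19 a16 a15 a21 a20 a17 a22 a23 : K) :
    pwG chevD4 K ClD4.flatten (tOf a18 a13 a12 a14 a19 a16 a15 a21 a20 a17 a22 a23) =
      A a18 a13 a12 * Qv a14 a19 a16 a15 a21 a20 a17 a22 a23 := by
  rw [pwG_ClD4]
  rfl

theorem Qv_eq_pwG (a14 a19 a16 a15 a21 a20 a17 a22 a23 : K) :
    Qv a14 a19 a16 a15 a21 a20 a17 a22 a23 =
      pwG chevD4 K ClD4.flatten (tOf 0 0 0 a14 a19 a16 a15 a21 a20 a17 a22 a23) := by
  rw [pwG_tOf, A, x_zero' 18 (by decide), x_zero' 13 (by decide), x_zero' 12 (by decide), one_mul, one_mul,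
    one_mul]

/-- PIECE NF-1: uniqueness of the normal form in the unipotent radical (from `pwG_injOn` of `Helper19/Twist/FixProd.lean`
for the closed list `[14, 19, 16, 15, 21, 20, 17, 22, 23]`, or for `ClD4.flatten` with zeros at `18, 13, 12`) -/
theorem NF_one (a14 a19 a16 a15 a21 a20 a17 a22 a23 : K) (h : Qv a14 a19 a16 a15 a21 a20 a17 a22 a23 = 1) :
    a14 = 0 ∧ a19 = 0 ∧ a16 = 0 ∧ a15 = 0 ∧ a21 = 0 ∧ a20 = 0 ∧ a17 = 0 ∧ a22 = 0 ∧ a23 = 0 := by
  have h1 : (1 : GL chevD4.Idx K) = pwG chevD4 K ClD4.flatten (tOf 0 0 0 0 0 0 0 0 0 0 0 0) := by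
    rw [← Qv_eq_pwG, Qv, x_zero' 14 (by decide), x_zero' 19 (by decide), x_zero' 16 (by decide),
      x_zero' 15 (by decide), x_zero' 21 (by decide), x_zero' 20 (by decide), x_zero' 17 (by decide),
      x_zero' 22 (by decide), x_zero' 23 (by decide)]
    simp only [mul_one]
  rw [Qv_eq_pwG, h1] at h
  have h2 := pwG_injOn (K := K) memD4 gradeOK'_D4 ClD4.flatten (closedOK_spec closedOK_D4) _ _
    (tOf_not_mem _ _ _ _ _ _ _ _ _ _ _ _) (tOf_not_mem _ _ _ _ _ _ _ _ _ _ _ _) h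
  have e := fun r => congrFun h2 r
  refine ⟨?_, ?_, ?_, ?_, ?_, ?_, ?_, ?_, ?_⟩
  · simpa [tOf] using e 14
  · simpa [tOf] using e 19
  · simpa [tOf] using e 16
  · simpa [tOf] using e 15
  · simpa [tOf] using e 21
  · simpa [tOf] using e 20
  · simpa [tOf] using e 17
  · simpa [tOf] using e 22
  · simpa [tOf] using e 23

end

section

variable {K : Type*} [Field K] [Fintype K] [CharP K 2] {q : ℕ} (f : K ≃+* K) (hf : ∀ t, f t = t ^ q)

local notation "x" => Cfsg.Agent.Helper18.xGL chevD4 K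

omit [Fintype K] in
/-- the `σ`-equivariance conditions on a coefficient family, in characteristic two -/
theorem TS_iff (t : ℕ → K) (ht : ∀ r, r ∉ ClD4.flatten → t r = 0) :
    t ∈ TS piInv1 eps1 f ClD4.flatten ↔
      (t 18 = f (t 12) ∧ t 13 = f (t 18) ∧ t 12 = f (t 13) ∧ t 14 = f (t 14) ∧ t 19 = f (t 15) ∧
        t 16 = f (t 19) ∧ t 15 = f (t 16) ∧ t 21 = f (t 20) ∧ t 20 = f (t 17) ∧ t 17 = f (t 21) ∧
        t 22 = f (t 22) ∧ t 23 = f (t 23)) := by
  have hneg : (-1 : K) = 1 := CharTwo.neg_eq (1 : K)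
  have hfl : ClD4.flatten = [18, 13, 12, 14, 19, 16, 15, 21, 20, 17, 22, 23] := rfl
  have p18 : piInv1 18 = 12 := rfl
  have p13 : piInv1 13 = 18 := rfl
  have p12 : piInv1 12 = 13 := rfl
  have p14 : piInv1 14 = 14 := rfl
  have p19 : piInv1 19 = 15 := rfl
  have p16 : piInv1 16 = 19 := rfl
  have p15 : piInv1 15 = 16 := rfl
  have p21 : piInv1 21 = 20 := rfl
  have p20 : piInv1 20 = 17 := rfl
  have p17 : piInv1 17 = 21 := rfl
  have p22 : piInv1 22 = 22 := rfl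
  have p23 : piInv1 23 = 23 := rfl
  have s12 : eps1 12 = 1 := rfl
  have s13 : eps1 13 = 1 := rfl
  have s14 : eps1 14 = 1 := rfl
  have s15 : eps1 15 = -1 := rfl
  have s16 : eps1 16 = 1 := rfl
  have s17 : eps1 17 = -1 := rfl
  have s18 : eps1 18 = 1 := rfl
  have s19 : eps1 19 = -1 := rfl
  have s20 : eps1 20 = 1 := rfl
  have s21 : eps1 21 = -1 := rfl
  have s22 : eps1 22 = 1 := rfl
  have s23 : eps1 23 = 1 := rfl
  rw [mem_TS, hfl]
  constructor
  · rintro ⟨-, h2⟩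
    have e18 := h2 18 (by simp)
    have e13 := h2 13 (by simp)
    have e12 := h2 12 (by simp)
    have e14 := h2 14 (by simp)
    have e19 := h2 19 (by simp)
    have e16 := h2 16 (by simp)
    have e15 := h2 15 (by simp)
    have e21 := h2 21 (by simp)
    have e20 := h2 20 (by simp)
    have e17 := h2 17 (by simp)
    have e22 := h2 22 (by simp)
    have e23 := h2 23 (by simp)
    rw [p18, s12, Int.cast_one, one_mul] at e18
    rw [p13, s18, Int.cast_one, one_mul] at e13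
    rw [p12, s13, Int.cast_one, one_mul] at e12
    rw [p14, s14, Int.cast_one, one_mul] at e14
    rw [p19, s15, Int.cast_neg, Int.cast_one, hneg, one_mul] at e19
    rw [p16, s19, Int.cast_neg, Int.cast_one, hneg, one_mul] at e16
    rw [p15, s16, Int.cast_one, one_mul] at e15
    rw [p21, s20, Int.cast_one, one_mul] at e21
    rw [p20, s17, Int.cast_neg, Int.cast_one, hneg, one_mul] at e20
    rw [p17, s21, Int.cast_neg, Int.cast_one, hneg, one_mul] at e17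
    rw [p22, s22, Int.cast_one, one_mul] at e22
    rw [p23, s23, Int.cast_one, one_mul] at e23
    exact ⟨e18, e13, e12, e14, e19, e16, e15, e21, e20, e17, e22, e23⟩
  · rintro ⟨e18, e13, e12, e14, e19, e16, e15, e21, e20, e17, e22, e23⟩
    refine ⟨by rw [← hfl]; exact ht, ?_⟩
    intro s hs
    simp only [List.mem_cons, List.not_mem_nil, or_false] at hs
    rcases hs with rfl | rfl | rfl | rfl | rfl | rfl | rfl | rfl | rfl | rfl | rfl | rfl
    · rw [p18, s12, Int.cast_one, one_mul]; exact e18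
    · rw [p13, s18, Int.cast_one, one_mul]; exact e13
    · rw [p12, s13, Int.cast_one, one_mul]; exact e12
    · rw [p14, s14, Int.cast_one, one_mul]; exact e14
    · rw [p19, s15, Int.cast_neg, Int.cast_one, hneg, one_mul]; exact e19
    · rw [p16, s19, Int.cast_neg, Int.cast_one, hneg, one_mul]; exact e16
    · rw [p15, s16, Int.cast_one, one_mul]; exact e15
    · rw [p21, s20, Int.cast_one, one_mul]; exact e21
    · rw [p20, s17, Int.cast_neg, Int.cast_one, hneg, one_mul]; exact e20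
    · rw [p17, s21, Int.cast_neg, Int.cast_one, hneg, one_mul]; exact e17
    · rw [p22, s22, Int.cast_one, one_mul]; exact e22
    · rw [p23, s23, Int.cast_one, one_mul]; exact e23

include hf in
/-- PIECE NF-2: every element of `U ∩ ³D₄(q)` is `x_a(s)` times a twisted element of the radical
(`twistedD4_le_FixD4`, `fix_listSubgroup_eq` for `ClD4` as in `U_fix_le_D4`; the signs `eps1` are `1` in
characteristic two; `pi1`: 18 → 13 → 12, 19 → 16 → 15, 21 → 17 → 20, and 14, 22, 23 fixed) -/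
theorem NF_exists (hq : IsPrimePow q) (hK : Fintype.card K = q ^ 3) (u : GL chevD4.Idx K)
    (hu : u ∈ chevD4.posUnipotent K) (hG : u ∈ twistedD4 K q) :
    ∃ s v0 v1 v2 v3 z : K, u = At f s * Qt f v0 v1 v2 v3 z := by
  have hfix : u ∈ FixD4 f := twistedD4_le_FixD4 f hf hK hG
  have h1 := fix_listSubgroup_eq (K := K) memD4 gradeOK'_D4 rho1 rhoInv1 pi1 piInv1 eps1 permsOK_D4 f allOK1 ClD4
    (closedOK_spec closedOK_D4) classOK_D4
  rw [listSubgroup_ClD4] at h1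
  have hu' : u ∈ ((chevD4.posUnipotent K ⊓ Fix chevD4 rho1 rhoInv1 pi1 piInv1 eps1 permsOK_D4 f :
      Subgroup (GL chevD4.Idx K)) : Set (GL chevD4.Idx K)) := ⟨hu, hfix⟩
  rw [h1] at hu'
  obtain ⟨t, ht, rfl⟩ := hu'
  obtain ⟨e18, e13, e12, e14, e19, e16, e15, e21, e20, e17, e22, e23⟩ := (TS_iff f t ht.1).mp ht
  refine ⟨t 18, t 14, t 19, t 21, t 22, t 23, ?_⟩
  rw [pwG_ClD4, At, A, Qt, Qv, ← e13, ← e16, ← e17]
  have a12 : f (t 13) = t 12 := e12.symm
  have a15 : f (t 16) = t 15 := e15.symm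
  have a20 : f (t 17) = t 20 := e20.symm
  rw [a12, a15, a20]

/-- the coefficient family of `Qt` is `σ`-equivariant -/
theorem tOf_Qt_mem_iff (hK : Fintype.card K = q ^ 3) (hf : ∀ t, f t = t ^ q) (v0 v1 v2 v3 z : K) :
    tOf 0 0 0 v0 v1 (f v1) (f (f v1)) v2 (f (f v2)) (f v2) v3 z ∈ TS piInv1 eps1 f ClD4.flatten ↔
      (f v0 = v0 ∧ f v3 = v3 ∧ f z = z) := by
  rw [TS_iff f _ (tOf_not_mem _ _ _ _ _ _ _ _ _ _ _ _)]
  have e18 : tOf 0 0 0 v0 v1 (f v1) (f (f v1)) v2 (f (f v2)) (f v2) v3 z 18 = 0 := by simp [tOf]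
  have e13 : tOf 0 0 0 v0 v1 (f v1) (f (f v1)) v2 (f (f v2)) (f v2) v3 z 13 = 0 := by simp [tOf]
  have e12 : tOf 0 0 0 v0 v1 (f v1) (f (f v1)) v2 (f (f v2)) (f v2) v3 z 12 = 0 := by simp [tOf]
  have e14 : tOf 0 0 0 v0 v1 (f v1) (f (f v1)) v2 (f (f v2)) (f v2) v3 z 14 = v0 := by simp [tOf]
  have e19 : tOf 0 0 0 v0 v1 (f v1) (f (f v1)) v2 (f (f v2)) (f v2) v3 z 19 = v1 := by simp [tOf]
  have e16 : tOf 0 0 0 v0 v1 (f v1) (f (f v1)) v2 (f (f v2)) (f v2) v3 z 16 = f v1 := by simp [tOf]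
  have e15 : tOf 0 0 0 v0 v1 (f v1) (f (f v1)) v2 (f (f v2)) (f v2) v3 z 15 = f (f v1) := by simp [tOf]
  have e21 : tOf 0 0 0 v0 v1 (f v1) (f (f v1)) v2 (f (f v2)) (f v2) v3 z 21 = v2 := by simp [tOf]
  have e20 : tOf 0 0 0 v0 v1 (f v1) (f (f v1)) v2 (f (f v2)) (f v2) v3 z 20 = f (f v2) := by simp [tOf]
  have e17 : tOf 0 0 0 v0 v1 (f v1) (f (f v1)) v2 (f (f v2)) (f v2) v3 z 17 = f v2 := by simp [tOf]
  have e22 : tOf 0 0 0 v0 v1 (f v1) (f (f v1)) v2 (f (f v2)) (f v2) v3 z 22 = v3 := by simp [tOf]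
  have e23 : tOf 0 0 0 v0 v1 (f v1) (f (f v1)) v2 (f (f v2)) (f v2) v3 z 23 = z := by simp [tOf]
  rw [e18, e13, e12, e14, e19, e16, e15, e21, e20, e17, e22, e23, map_zero, frob3 f hf hK, frob3 f hf hK]
  constructor
  · rintro ⟨-, -, -, h14, -, -, -, -, -, -, h22, h23⟩
    exact ⟨h14.symm, h22.symm, h23.symm⟩
  · rintro ⟨h0, h3, hz⟩
    exact ⟨rfl, rfl, rfl, h0.symm, rfl, rfl, rfl, rfl, rfl, rfl, h3.symm, hz.symm⟩

include hf in
/-- PIECE NF-3: the twisted elements of the radical are in `³D₄(q)` (`U_fix_le_D4`, `pwG_mem_Fix_iff`) -/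
theorem NF_mem (hq : IsPrimePow q) (hK : Fintype.card K = q ^ 3) (v0 v1 v2 v3 z : K)
    (h0 : f v0 = v0) (h3 : f v3 = v3) (hz : f z = z) : Qt f v0 v1 v2 v3 z ∈ twistedD4 K q := by
  have hq1 : 1 ≤ q := hq.one_lt.le
  apply U_fix_le_D4 f hf h31D4 hq1 hK
  rw [Qt, Qv_eq_pwG]
  refine Subgroup.mem_inf.mpr ⟨?_, ?_⟩
  · rw [← listSubgroup_ClD4]
    exact pwG_mem_listSubgroup memD4 _ _
  · exact (pwG_mem_Fix_iff (K := K) memD4 gradeOK'_D4 rho1 rhoInv1 pi1 piInv1 eps1 permsOK_D4 f allOK1 ClD4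
      (closedOK_spec closedOK_D4) classOK_D4 _ (tOf_not_mem _ _ _ _ _ _ _ _ _ _ _ _)).mpr
      ((tOf_Qt_mem_iff f hK hf v0 v1 v2 v3 z).mpr ⟨h0, h3, hz⟩)

include hf in
/-- PIECE NF-4: conversely the parameters at the fixed roots `14, 22, 23` are in the fixed field
(`twistedD4_le_FixD4`, `pwG_mem_Fix_iff` or `sigD4_xGL` and NF-1) -/
theorem NF_fix (hq : IsPrimePow q) (hK : Fintype.card K = q ^ 3) (v0 v1 v2 v3 z : K)
    (h : Qt f v0 v1 v2 v3 z ∈ twistedD4 K q) : f v0 = v0 ∧ f v3 = v3 ∧ f z = z := by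
  have hfix : Qt f v0 v1 v2 v3 z ∈ FixD4 f := twistedD4_le_FixD4 f hf hK h
  rw [Qt, Qv_eq_pwG] at hfix
  have h1 := (pwG_mem_Fix_iff (K := K) memD4 gradeOK'_D4 rho1 rhoInv1 pi1 piInv1 eps1 permsOK_D4 f allOK1 ClD4
      (closedOK_spec closedOK_D4) classOK_D4 _ (tOf_not_mem _ _ _ _ _ _ _ _ _ _ _ _)).mp hfix
  exact (tOf_Qt_mem_iff f hK hf v0 v1 v2 v3 z).mp h1

end

end Cfsg.Agent.Helper36.D4Inv
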