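import Cfsg.Agent.Helper36.D4Inv.Defs
import Cfsg.Agent.Helper18.Tw.P_Sylow

/-!
Helper36, S2183 piece (SY): every involution of `³D₄(q)`, `q` even, is conjugate into `U`.
-/

set_option autoImplicit false
set_option maxRecDepth 100000

namespace Cfsg.Agent.Helper36.D4Inv

open Cfsg Cfsg.Lie Cfsg.Agent.Helper18 Cfsg.Agent.Helper18.Tw Cfsg.Agent.Helper19.Twist

section

variable {K : Type*} [Field K] [Fintype K] [CharP K 2] {q : ℕ}

/-- PIECE SY: (`sylow_D4 2 hq hK` of `Helper18/Tw/P_Sylow.lean`: `U1 K q = (posUnipotent).subgroupOf (twistedD4 K q)`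
is a Sylow 2-subgroup; `zpowers g` is a 2-group, so it is in a conjugate of it: `IsPGroup.exists_le_sylow`,
`Sylow` conjugacy `MulAction.exists_smul_eq`) -/
theorem sylow_conj (hq : IsPrimePow q) (hK : Fintype.card K = q ^ 3) (g : GL chevD4.Idx K) (hg : g ∈ twistedD4 K q)
    (h2 : g * g = 1) : ∃ k ∈ twistedD4 K q, k * g * k⁻¹ ∈ chevD4.posUnipotent K := by
  haveI : Fact (Nat.Prime 2) := ⟨Nat.prime_two⟩
  obtain ⟨Q, hQ⟩ := sylow_D4 (K := K) (q := q) 2 hq hK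
  have hg' : (⟨g, hg⟩ : ↥(twistedD4 K q)) * ⟨g, hg⟩ = 1 := Subtype.ext h2
  have hP : IsPGroup 2 (Subgroup.zpowers (⟨g, hg⟩ : ↥(twistedD4 K q))) := by
    rintro ⟨y, hy⟩
    refine ⟨1, ?_⟩
    obtain ⟨n, rfl⟩ := Subgroup.mem_zpowers_iff.mp hy
    apply Subtype.ext
    show ((⟨g, hg⟩ : ↥(twistedD4 K q)) ^ n) ^ 2 ^ 1 = 1
    rw [pow_one, ← zpow_natCast, ← zpow_mul, mul_comm, zpow_mul, zpow_natCast, pow_two, hg',
      one_zpow]
  obtain ⟨P, hP'⟩ := hP.exists_le_sylow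
  haveI : Finite (Sylow 2 ↥(twistedD4 K q)) := inferInstance
  obtain ⟨k, hk⟩ := MulAction.exists_smul_eq ↥(twistedD4 K q) P Q
  refine ⟨k.1, k.2, ?_⟩
  have h1 : (⟨g, hg⟩ : ↥(twistedD4 K q)) ∈ (P : Subgroup ↥(twistedD4 K q)) :=
    hP' (Subgroup.mem_zpowers _)
  have h3 : k * ⟨g, hg⟩ * k⁻¹ ∈ (Q : Subgroup ↥(twistedD4 K q)) := by
    rw [← hk, Sylow.coe_subgroup_smul]
    have := Subgroup.smul_mem_pointwise_smul _ (MulAut.conj k) _ h1
    simpa [MulAut.smul_def] using this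
  rw [hQ] at h3
  unfold U1 at h3
  rw [Subgroup.mem_subgroupOf] at h3
  simpa using h3

end

end Cfsg.Agent.Helper36.D4Inv
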