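import Cfsg.Agent.Helper36.D4Inv.Defs
import Cfsg.Agent.Helper36.D4Inv.Field
import Cfsg.Agent.Helper18.Tw.P_Diag

/-!
Helper36, S2183 piece (TO): the torus `H ∩ ³D₄(q)` normalises the parameters of root elements, `q` even.
-/

set_option autoImplicit false
set_option maxRecDepth 100000

namespace Cfsg.Agent.Helper36.D4Inv

open Cfsg Cfsg.Lie Cfsg.Agent.Helper18 Cfsg.Agent.Helper18.Tw Cfsg.Agent.Helper19.Twist

section DiagChar

open Cfsg.Agent.Helper18.Aut Cfsg.Agent.Helper19.Poinc Cfsg.Agent.Helper19.Cox Cfsg.Agent.S1081 Cfsg.Agent.Helper6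
  Cfsg.Agent.Helper40.SL2Hom Cfsg.Agent.S1080 Cfsg.Agent.Helper18.Sub

/-- the full character of the torus element of `exists_diag` (same proof, all roots kept) -/
theorem exists_diag_char {K : Type*} [Field K] [Fintype K] {q : ℕ} (f : K ≃+* K) (hf : ∀ t, f t = t ^ q)
    (hq : 2 ≤ q) (hK : Fintype.card K = q ^ 3) (c d : K) (hc : c ≠ 0) (hd : d ≠ 0) (hfd : f d = d) :
    ∃ h : GL chevD4.Idx K, h ∈ chevD4.diagonalSubgroup K ∧ h ∈ twistedD4 K q ∧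
      ∀ u, u < chevD4.nroots → ∀ t : K, h * xGL chevD4 K u t * h⁻¹ =
        xGL chevD4 K u ((c ^ coordD4 u 0 * d ^ coordD4 u 1 * (f c) ^ coordD4 u 2 * (f (f c)) ^ coordD4 u 3) * t) := by
  classical
  have hq1 : 1 ≤ q := by omega
  have hfinT : (SD4 K q).Finite := Set.toFinite _
  have himg : phiD4 '' ((chevD4.diagonalSubgroup K ⊓ twistedD4 K q : Subgroup (GL chevD4.Idx K)) :
      Set (GL chevD4.Idx K)) = SD4 K q := by
    apply Set.eq_of_subset_of_ncard_le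
    · rintro _ ⟨g, hg, rfl⟩
      exact phiD4_mapsTo f hf hK g hg
    · rw [(phiD4_injOn f hf hK).ncard_image, ncard_SD4 hq1 hK, ← card_torus_D4 f hf hq hK]
      exact (Nat.card_coe_set_eq _).le
    · exact hfinT
  have hcd : (c, d) ∈ SD4 K q := ⟨hc, hd, by rw [← hf]; exact hfd⟩
  rw [← himg] at hcd
  obtain ⟨h, hhS, hφ⟩ := hcd
  have hhS' : h ∈ chevD4.diagonalSubgroup K ⊓ twistedD4 K q := hhS
  have hH : h ∈ chevD4.diagonalSubgroup K := hhS'.1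
  have hG : h ∈ twistedD4 K q := hhS'.2
  have e18 : rootEntry chevD4 (h : Matrix chevD4.Idx chevD4.Idx K) 18 = c := congrArg Prod.fst hφ
  have e14 : rootEntry chevD4 (h : Matrix chevD4.Idx chevD4.Idx K) 14 = d := congrArg Prod.snd hφ
  have e13 : rootEntry chevD4 (h : Matrix chevD4.Idx chevD4.Idx K) 13 = f c := by
    have h1 := entry_sigma_D4 f hf hK h hhS' 18 (by decide)
    have p : pi1 18 = 13 := rfl
    rw [p, e18] at h1
    exact h1
  have e12 : rootEntry chevD4 (h : Matrix chevD4.Idx chevD4.Idx K) 12 = f (f c) := by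
    have h1 := entry_sigma_D4 f hf hK h hhS' 13 (by decide)
    have p : pi1 13 = 12 := rfl
    rw [p, e13] at h1
    exact h1
  obtain ⟨χ', -, hd', hm'⟩ := diag_char_mul chevD4 memD4 coordD4 coordOK_D4 h hH
  obtain ⟨χ, -, hdχ, hconj⟩ := diagonalSubgroup_char chevD4 memD4 h hH
  have hχ : ∀ u, u < chevD4.nroots → χ u = rootEntry chevD4 (h : Matrix chevD4.Idx chevD4.Idx K) u := by
    intro u hu
    rw [hdχ, rootEntry_diagonal chevD4 χ u hu]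
  have hχ' : ∀ u, u < chevD4.nroots →
      χ' u = rootEntry chevD4 (h : Matrix chevD4.Idx chevD4.Idx K) u := by
    intro u hu
    rw [hd', rootEntry_diagonal chevD4 χ' u hu]
  have c18' : χ' 18 = c := by rw [hχ' 18 (by decide), e18]
  have c14' : χ' 14 = d := by rw [hχ' 14 (by decide), e14]
  have c13' : χ' 13 = f c := by rw [hχ' 13 (by decide), e13]
  have c12' : χ' 12 = f (f c) := by rw [hχ' 12 (by decide), e12]
  have hr : chevD4.rank = 4 := rfl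
  have s0 : chevD4.simple 0 = 18 := rfl
  have s1 : chevD4.simple 1 = 14 := rfl
  have s2 : chevD4.simple 2 = 13 := rfl
  have s3 : chevD4.simple 3 = 12 := rfl
  have hprod : ∀ u, u < chevD4.nroots → χ u =
      c ^ coordD4 u 0 * d ^ coordD4 u 1 * (f c) ^ coordD4 u 2 * (f (f c)) ^ coordD4 u 3 := by
    intro u hu
    rw [hχ u hu, ← hχ' u hu, hm' u hu, hr, Finset.prod_range_succ, Finset.prod_range_succ,
      Finset.prod_range_succ, Finset.prod_range_one, s0, s1, s2, s3, c18', c14', c13', c12']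
  refine ⟨h, hH, hG, ?_⟩
  intro r hr t
  rw [hconj r hr t, mul_inv_cancel_right, hprod r hr]

end DiagChar

section

variable {K : Type*} [Field K] [Fintype K] [CharP K 2] {q : ℕ} (f : K ≃+* K) (hf : ∀ t, f t = t ^ q)

local notation "x" => Cfsg.Agent.Helper18.xGL chevD4 K

include hf in
/-- PIECE TO-1: (`exists_diag` of `Helper18/Tw/P_Diag.lean` with `c = v1⁻¹`, `d = 1`: its proof has the full
character `χ` of `h` with `χ 18 = c`, `χ 13 = f c`, `χ 12 = f (f c)`, `χ 14 = d`, multiplicative on sums of roots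
(`diag_char_mul`): `χ 19 = χ 18 * χ 14`, `χ 16 = χ 13 * χ 14`, `χ 15 = χ 12 * χ 14`) -/
theorem torus_short (hq : IsPrimePow q) (hK : Fintype.card K = q ^ 3) (v1 : K) (h1 : v1 ≠ 0) :
    ∃ h ∈ twistedD4 K q, h * (x 19 v1 * x 16 (f v1) * x 15 (f (f v1))) * h⁻¹ = x 19 1 * x 16 1 * x 15 1 := by
  obtain ⟨h, -, hG, hc⟩ := exists_diag_char f hf hq.two_le hK v1⁻¹ 1 (inv_ne_zero h1) one_ne_zero (map_one f)
  refine ⟨h, hG, ?_⟩
  have e : h * (x 19 v1 * x 16 (f v1) * x 15 (f (f v1))) * h⁻¹ =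
      (h * x 19 v1 * h⁻¹) * (h * x 16 (f v1) * h⁻¹) * (h * x 15 (f (f v1)) * h⁻¹) := by group
  have hfv : f v1 ≠ 0 := (map_ne_zero f).2 h1
  have hffv : f (f v1) ≠ 0 := (map_ne_zero f).2 hfv
  have k19 : (coordD4 19 0 = 1 ∧ coordD4 19 1 = 1 ∧ coordD4 19 2 = 0 ∧ coordD4 19 3 = 0) := by decide
  have k16 : (coordD4 16 0 = 0 ∧ coordD4 16 1 = 1 ∧ coordD4 16 2 = 1 ∧ coordD4 16 3 = 0) := by decide
  have k15 : (coordD4 15 0 = 0 ∧ coordD4 15 1 = 1 ∧ coordD4 15 2 = 0 ∧ coordD4 15 3 = 1) := by decide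
  rw [e, hc 19 (by decide), hc 16 (by decide), hc 15 (by decide), k19.1, k19.2.1, k19.2.2.1, k19.2.2.2,
    k16.1, k16.2.1, k16.2.2.1, k16.2.2.2, k15.1, k15.2.1, k15.2.2.1, k15.2.2.2]
  have a1 : (v1⁻¹ ^ (1 : ℤ) * (1 : K) ^ (1 : ℤ) * (f v1⁻¹) ^ (0 : ℤ) * (f (f v1⁻¹)) ^ (0 : ℤ)) * v1 = 1 := by
    simp [h1]
  have a2 : (v1⁻¹ ^ (0 : ℤ) * (1 : K) ^ (1 : ℤ) * (f v1⁻¹) ^ (1 : ℤ) * (f (f v1⁻¹)) ^ (0 : ℤ)) * f v1 = 1 := by
    simp [hfv]
  have a3 : (v1⁻¹ ^ (0 : ℤ) * (1 : K) ^ (1 : ℤ) * (f v1⁻¹) ^ (0 : ℤ) * (f (f v1⁻¹)) ^ (1 : ℤ)) * f (f v1) = 1 := by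
    simp [hffv]
  rw [a1, a2, a3]

include hf in
/-- PIECE TO-2: (`χ 23 = χ 18 * χ 13 * χ 12 * χ 14 ^ 2`; take `c = 1` and `d` with `d * d = z⁻¹`, `f d = d`:
`sqrt_fix` of `Helper36/D4Inv/Field.lean`) -/
theorem torus_long (hq : IsPrimePow q) (hK : Fintype.card K = q ^ 3) (z : K) (hz : z ≠ 0) (hfz : f z = z) :
    ∃ h ∈ twistedD4 K q, h * x 23 z * h⁻¹ = x 23 1 := by
  obtain ⟨d, hfd, hdd⟩ := sqrt_fix f z⁻¹ (by rw [map_inv₀, hfz])
  have hd : d ≠ 0 := by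
    rintro rfl
    rw [mul_zero] at hdd
    exact inv_ne_zero hz hdd.symm
  obtain ⟨h, -, hG, hc⟩ := exists_diag_char f hf hq.two_le hK 1 d one_ne_zero hd hfd
  refine ⟨h, hG, ?_⟩
  have k23 : (coordD4 23 0 = 1 ∧ coordD4 23 1 = 2 ∧ coordD4 23 2 = 1 ∧ coordD4 23 3 = 1) := by decide
  rw [hc 23 (by decide), k23.1, k23.2.1, k23.2.2.1, k23.2.2.2]
  have a : ((1 : K) ^ (1 : ℤ) * d ^ (2 : ℤ) * (f 1) ^ (1 : ℤ) * (f (f 1)) ^ (1 : ℤ)) * z = 1 := by
    have : d ^ (2 : ℤ) = d * d := by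
      rw [show (2 : ℤ) = ((2 : ℕ) : ℤ) from rfl, zpow_natCast, pow_two]
    rw [this, hdd]
    simp [hz]
  rw [a]

end

end Cfsg.Agent.Helper36.D4Inv
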