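import Cfsg.Agent.Helper36.D4Inv.Defs
import Cfsg.Agent.Helper18.BNMain
import Cfsg.Agent.Helper18.Tw.P_Rel

/-!
Helper36, S2183 piece (NW): the action of the two generators of the twisted Weyl group on the positive root elements,
in characteristic two (no signs).
-/

set_option autoImplicit false
set_option maxRecDepth 100000

namespace Cfsg.Agent.Helper36.D4Inv

open Cfsg Cfsg.Lie Cfsg.Agent.Helper18 Cfsg.Agent.Helper18.Tw Cfsg.Agent.Helper19.Twist

section

variable {K : Type*} [Field K] [Fintype K] [CharP K 2] {q : ℕ} (f : K ≃+* K) (hf : ∀ t, f t = t ^ q)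

local notation "x" => Cfsg.Agent.Helper18.xGL chevD4 K

omit [Fintype K] in
/-- in characteristic two, a word in the `n_p` conjugates `x_s(t)` to `x_{w s}(t)` -/
theorem nWords_conj_char2 (w : List ℕ) (hw : ∀ i ∈ w, i < chevD4.rank) (s s' : ℕ) (hs : s < chevD4.nroots)
    (hs' : rho chevD4 w s = s') (t : K) :
    nWordsGL chevD4 K w * x s t * (nWordsGL chevD4 K w)⁻¹ = x s' t := by
  obtain ⟨-, η, hη, h⟩ := nWordsGL_conj_xGL chevD4 memD4 (h31D4 (K := K))
    (fun i s hi hs => reflectRoot_lt chevD4 memD4 i s hi hs) w hw s hs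
  have hη1 : (η : K) = 1 := by
    rcases hη with rfl | rfl
    · simp
    · push_cast
      exact CharTwo.neg_eq (1 : K)
  have e := h t
  rw [hη1, one_mul, hs'] at e
  rw [e, mul_inv_cancel_right]

omit [Fintype K] [CharP K 2] in
theorem nWords_023 : nWordsGL chevD4 K [0, 2, 3] = nG chevD4 K 18 1 * nG chevD4 K 13 1 * nG chevD4 K 12 1 := by
  simp only [nWordsGL, List.map_cons, List.map_nil, List.prod_cons, List.prod_nil, mul_one, mul_assoc]
  rfl

omit [Fintype K] [CharP K 2] in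
theorem nWords_1 : nWordsGL chevD4 K [1] = nG chevD4 K 14 1 := by
  simp only [nWordsGL, List.map_cons, List.map_nil, List.prod_cons, List.prod_nil, mul_one]
  rfl

include hf in
/-- PIECE NW-1: `s_a = n_{p₁} n_{p₃} n_{p₄}` (`sTw f hf 0`, `sTw0_eq`, `RE_w_a`; `h31D4` gives
`n_p x_s(t) n_p⁻¹ = x_{w_p s}(η t)`, `η = ±1`, which is `1` in characteristic two) acts by `e_S ↦ e_{Sᶜ}` -/
theorem na_exists (hq : IsPrimePow q) (hK : Fintype.card K = q ^ 3) :
    ∃ n ∈ twistedD4 K q, (∀ t, n * x 14 t * n⁻¹ = x 22 t) ∧ (∀ t, n * x 19 t * n⁻¹ = x 17 t) ∧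
      (∀ t, n * x 16 t * n⁻¹ = x 20 t) ∧ (∀ t, n * x 15 t * n⁻¹ = x 21 t) ∧ (∀ t, n * x 21 t * n⁻¹ = x 15 t) ∧
      (∀ t, n * x 20 t * n⁻¹ = x 16 t) ∧ (∀ t, n * x 17 t * n⁻¹ = x 19 t) ∧ (∀ t, n * x 22 t * n⁻¹ = x 14 t) ∧
      (∀ t, n * x 23 t * n⁻¹ = x 23 t) := by
  have hn : ((sTw f hf 0 : ↥(twistedD4 K q)) : GL chevD4.Idx K) = nWordsGL chevD4 K [0, 2, 3] := by
    rw [sTw0_eq, RE_w_a, map_one, map_one, nWords_023]
  have hw : ∀ i ∈ [0, 2, 3], i < chevD4.rank := by decide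
  refine ⟨_, (sTw f hf 0).2, ?_⟩
  rw [hn]
  refine ⟨fun t => nWords_conj_char2 _ hw 14 22 (by decide) (by decide) t,
    fun t => nWords_conj_char2 _ hw 19 17 (by decide) (by decide) t,
    fun t => nWords_conj_char2 _ hw 16 20 (by decide) (by decide) t,
    fun t => nWords_conj_char2 _ hw 15 21 (by decide) (by decide) t,
    fun t => nWords_conj_char2 _ hw 21 15 (by decide) (by decide) t,
    fun t => nWords_conj_char2 _ hw 20 16 (by decide) (by decide) t,
    fun t => nWords_conj_char2 _ hw 17 19 (by decide) (by decide) t,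
    fun t => nWords_conj_char2 _ hw 22 14 (by decide) (by decide) t,
    fun t => nWords_conj_char2 _ hw 23 23 (by decide) (by decide) t⟩

include hf in
/-- PIECE NW-2: `s_b = n_{p₂}` (`sTw f hf 1`, `sTw1_eq`) -/
theorem nb_exists (hq : IsPrimePow q) (hK : Fintype.card K = q ^ 3) :
    ∃ n ∈ twistedD4 K q, (∀ t, n * x 18 t * n⁻¹ = x 19 t) ∧ (∀ t, n * x 13 t * n⁻¹ = x 16 t) ∧
      (∀ t, n * x 12 t * n⁻¹ = x 15 t) ∧ (∀ t, n * x 22 t * n⁻¹ = x 23 t) ∧ (∀ t, n * x 23 t * n⁻¹ = x 22 t) := by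
  have hn : ((sTw f hf 1 : ↥(twistedD4 K q)) : GL chevD4.Idx K) = nWordsGL chevD4 K [1] := by
    rw [sTw1_eq, ← RE_neg14, RE_w_eq_nG, nWords_1]
  have hw : ∀ i ∈ [1], i < chevD4.rank := by decide
  refine ⟨_, (sTw f hf 1).2, ?_⟩
  rw [hn]
  refine ⟨fun t => nWords_conj_char2 _ hw 18 19 (by decide) (by decide) t,
    fun t => nWords_conj_char2 _ hw 13 16 (by decide) (by decide) t,
    fun t => nWords_conj_char2 _ hw 12 15 (by decide) (by decide) t,
    fun t => nWords_conj_char2 _ hw 22 23 (by decide) (by decide) t,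
    fun t => nWords_conj_char2 _ hw 23 22 (by decide) (by decide) t⟩

end

end Cfsg.Agent.Helper36.D4Inv
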