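import Cfsg.Agent.Helper36.D4Inv.Coll
import Cfsg.Agent.Helper36.D4Inv.Field
import Cfsg.Agent.Helper36.D4Inv.P_NF
import Cfsg.Agent.Helper36.D4Inv.P_Weyl
import Cfsg.Agent.Helper36.D4Inv.P_Torus
import Cfsg.Agent.Helper36.D4Inv.P_Sylow
import Cfsg.Agent.Helper36.D4Inv.P_NC

/-!
Helper36: the involutions of `³D₄(q)`, `q` even: every involution of `U ∩ ³D₄(q)` is conjugate to the long root
involution `x₂₃(1)` or to the short root involution `x₁₉(1) x₁₆(1) x₁₅(1)`.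
-/

set_option autoImplicit false
set_option maxRecDepth 100000

namespace Cfsg.Agent.Helper36.D4Inv

open Cfsg Cfsg.Lie Cfsg.Agent.Helper18 Cfsg.Agent.Helper18.Tw Cfsg.Agent.Helper19.Twist
  Cfsg.Agent.Helper36.D4Rel

section

variable {K : Type*} [Field K] [CharP K 2]

local notation "x" => Cfsg.Agent.Helper18.xGL chevD4 K

omit [CharP K 2] in
theorem Qt_congr (f : K ≃+* K) {v0 v1 v2 v3 z v0' v1' v2' v3' z' : K} (e0 : v0 = v0') (e1 : v1 = v1')
    (e2 : v2 = v2') (e3 : v3 = v3') (ez : z = z') : Qt f v0 v1 v2 v3 z = Qt f v0' v1' v2' v3' z' := by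
  subst e0 e1 e2 e3 ez
  rfl

omit [CharP K 2] in
theorem tr_zero (f : K ≃+* K) : tr f 0 = 0 := by
  unfold tr
  simp

theorem x23_eq_one (c : K) (h : x 23 c = 1) : c = 0 := by
  have : Qv (0 : K) 0 0 0 0 0 0 0 c = 1 := by
    unfold Qv
    rw [zero_14, zero_19, zero_16, zero_15, zero_21, zero_20, zero_17, zero_22, h]
    simp
  exact (NF_one _ _ _ _ _ _ _ _ _ this).2.2.2.2.2.2.2.2

theorem Qt_19_22 (f : K ≃+* K) (v1 v3 : K) :
    Qt f 0 v1 0 v3 0 = x 19 v1 * x 16 (f v1) * x 15 (f (f v1)) * x 22 v3 := by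
  unfold Qt Qv
  simp only [map_zero, zero_14, zero_21, zero_20, zero_17, zero_23, one_mul, mul_one]

theorem Qt_14 (f : K ≃+* K) (c : K) : Qt f c 0 0 0 0 = x 14 c := by
  unfold Qt Qv
  simp only [map_zero, zero_19, zero_16, zero_15, zero_21, zero_20, zero_17, zero_22, zero_23, mul_one]

end

section

variable {K : Type*} [Field K] [Fintype K] [CharP K 2] {q : ℕ} (f : K ≃+* K) (hf : ∀ t, f t = t ^ q)
  (hq : IsPrimePow q) (hK : Fintype.card K = q ^ 3)

local notation "x" => Cfsg.Agent.Helper18.xGL chevD4 K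

omit [Fintype K] [CharP K 2] in
include hf in
theorem At_mem (s : K) : At f s ∈ twistedD4 K q := xa_mem f hf s

include hf hq hK

theorem good_long (z : K) (hz : z ≠ 0) (hG : Qt f 0 0 0 0 z ∈ twistedD4 K q) : Good q (Qt f 0 0 0 0 z) := by
  obtain ⟨-, -, hfz⟩ := NF_fix f hf hq hK _ _ _ _ _ hG
  obtain ⟨h, hh, e⟩ := torus_long f hf hq hK z hz hfz
  rw [Qt_23]
  exact Or.inl ⟨h, hh, e⟩

theorem good_short (v1 : K) (h1 : v1 ≠ 0) : Good q (Qt f 0 v1 0 0 0) := by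
  obtain ⟨h, hh, e⟩ := torus_short f hf hq hK v1 h1
  rw [Qt_19]
  exact Or.inr ⟨h, hh, e⟩

/-- the centre is removed by a conjugation in the radical -/
theorem cj_z1 (v1 z : K) (h1 : v1 ≠ 0) (hG : Qt f 0 v1 0 0 z ∈ twistedD4 K q) :
    Cj q (Qt f 0 v1 0 0 z) (Qt f 0 v1 0 0 0) := by
  have hf3 := f_cube f hf hK
  obtain ⟨-, -, hfz⟩ := NF_fix f hf hq hK _ _ _ _ _ hG
  have hy : Qt f 0 0 (f (f (z / v1))) 0 0 ∈ twistedD4 K q :=
    NF_mem f hf hq hK _ _ _ _ _ (map_zero f) (map_zero f) (map_zero f)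
  apply Cj.of_mul_eq hy
  rw [Qt_mul_Qt f hf3, Qt_mul_Qt f hf3]
  apply Qt_congr
  · ring
  · ring
  · ring
  · ring
  · have e : v1 * (z / v1) = z := by field_simp
    simp only [hf3, e, tr_of_fix f z hfz, zero_mul, tr_zero, add_zero, zero_add]

theorem cj_z2 (v2 z : K) (h2 : v2 ≠ 0) (hG : Qt f 0 0 v2 0 z ∈ twistedD4 K q) :
    Cj q (Qt f 0 0 v2 0 z) (Qt f 0 0 v2 0 0) := by
  have hf3 := f_cube f hf hK
  obtain ⟨-, -, hfz⟩ := NF_fix f hf hq hK _ _ _ _ _ hG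
  have hy : Qt f 0 (z / f v2) 0 0 0 ∈ twistedD4 K q :=
    NF_mem f hf hq hK _ _ _ _ _ (map_zero f) (map_zero f) (map_zero f)
  have h2' : f v2 ≠ 0 := (map_ne_zero f).mpr h2
  apply Cj.of_mul_eq hy
  rw [Qt_mul_Qt f hf3, Qt_mul_Qt f hf3]
  apply Qt_congr
  · ring
  · ring
  · ring
  · ring
  · have e : z / f v2 * f v2 = z := by field_simp
    simp only [e, tr_of_fix f z hfz, zero_mul, tr_zero, add_zero, zero_add, CharTwo.add_self_eq_zero]

/-- the action of `s_a` -/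
theorem cj_na (v0 v1 v2 v3 z : K) :
    Cj q (Qt f v0 v1 v2 v3 z) (Qt f v3 (f v2) (f (f v1)) v0 (z + v0 * v3 + tr f (v1 * f v2))) := by
  have hf3 := f_cube f hf hK
  obtain ⟨n, hn, c14, c19, c16, c15, c21, c20, c17, c22, c23⟩ := na_exists f hf hq hK
  refine ⟨n, hn, ?_⟩
  rw [← Qt_perm f hf3]
  unfold Qt Qv
  have key : ∀ a b : GL chevD4.Idx K, n * (a * b) * n⁻¹ = (n * a * n⁻¹) * (n * b * n⁻¹) := by
    intro a b
    group
  simp only [key, c14, c19, c16, c15, c21, c20, c17, c22, c23]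

omit [Fintype K] [CharP K 2] in
omit hf hq hK in
theorem Cj.to_Qt {u : GL chevD4.Idx K} {v0 v1 v2 v3 z v0' v1' v2' v3' z' : K}
    (h : Cj q u (Qt f v0 v1 v2 v3 z)) (e0 : v0 = v0') (e1 : v1 = v1')
    (e2 : v2 = v2') (e3 : v3 = v3') (ez : z = z') : Cj q u (Qt f v0' v1' v2' v3' z') := by
  subst e0 e1 e2 e3 ez
  exact h

/-- conjugation by `x_a(s)` -/
theorem cj_At (v0 v1 v2 v3 z s : K) (h0 : f v0 = v0) :
    Cj q (Qt f v0 v1 v2 v3 z) (Qt f v0 (v1 + s * v0) (v2 + s * f v1 + f s * v1 + s * f s * v0)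
      (v3 + tr f (f (f s) * v2) + tr f (f s * f (f s) * v1) + nm f s * v0)
      (z + tr f (f (f s) * v1 * f v1) + v0 * tr f (f s * f (f s) * v1) + nm f s * v0 ^ 2)) :=
  Cj.of_mul_eq (At_mem f hf s) (Qt_mul_At f (f_cube f hf hK) v0 v1 v2 v3 z s h0)

/-- the action of `s_b` on a long root element -/
theorem cj_nb_long (v3 : K) : Cj q (Qt f 0 0 0 v3 0) (Qt f 0 0 0 0 v3) := by
  obtain ⟨n, hn, -, -, -, c22, -⟩ := nb_exists f hf hq hK
  refine ⟨n, hn, ?_⟩
  rw [Qt_22_23, zero_23, mul_one, Qt_23]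
  exact c22 v3

/-- the action of `s_b` on `x_a(s) x₂₃(c)` -/
theorem cj_nb_E (s c : K) : Cj q (At f s * x 23 c) (Qt f 0 s 0 c 0) := by
  obtain ⟨n, hn, c18, c13, c12, -, c23⟩ := nb_exists f hf hq hK
  refine ⟨n, hn, ?_⟩
  rw [Qt_19_22]
  unfold At A
  have key : ∀ a b : GL chevD4.Idx K, n * (a * b) * n⁻¹ = (n * a * n⁻¹) * (n * b * n⁻¹) := by
    intro a b
    group
  simp only [key, c18, c13, c12, c23]

/-- the elements of `X_{3a+b} X_{3a+2b}` -/
theorem good_D (v3 z : K) (hne : v3 ≠ 0 ∨ z ≠ 0) (hG : Qt f 0 0 0 v3 z ∈ twistedD4 K q) :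
    Good q (Qt f 0 0 0 v3 z) := by
  have hf3 := f_cube f hf hK
  obtain ⟨-, hf3', hfz⟩ := NF_fix f hf hq hK _ _ _ _ _ hG
  by_cases h3 : v3 = 0
  · subst h3
    have hz : z ≠ 0 := by
      rcases hne with h | h
      · exact absurd rfl h
      · exact h
    exact good_long f hf hq hK z hz hG
  · have hc : f (z / v3) = z / v3 := by rw [map_div₀, hfz, hf3']
    have hy : Qt f (z / v3) 0 0 0 0 ∈ twistedD4 K q :=
      NF_mem f hf hq hK _ _ _ _ _ hc (map_zero f) (map_zero f)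
    have c1 : Cj q (Qt f 0 0 0 v3 z) (Qt f 0 0 0 v3 0) := by
      apply Cj.of_mul_eq' hy
      rw [Qt_mul_Qt f hf3, Qt_mul_Qt f hf3]
      apply Qt_congr
      · ring
      · ring
      · ring
      · ring
      · have e : v3 * (z / v3) = z := by field_simp
        simp only [e, zero_mul, tr_zero, add_zero, zero_add]
    have c2 := cj_nb_long f hf hq hK v3
    have c3 := c1.trans c2
    exact Good.of_cj c3 (good_long f hf hq hK v3 h3 (c3.mem hG))

/-- the elements with `v0 = v1 = 0`, `v2 ≠ 0` -/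
theorem good_C (v2 v3 z : K) (h2 : v2 ≠ 0) (hG : Qt f 0 0 v2 v3 z ∈ twistedD4 K q) :
    Good q (Qt f 0 0 v2 v3 z) := by
  have hf3 := f_cube f hf hK
  obtain ⟨-, hf3', hfz⟩ := NF_fix f hf hq hK _ _ _ _ _ hG
  have c1 : Cj q (Qt f 0 0 v2 v3 z) (Qt f 0 0 v2 0 z) := by
    refine (cj_At f hf hq hK 0 0 v2 v3 z (f (v3 / v2)) (map_zero f)).to_Qt f rfl ?_ ?_ ?_ ?_
    · simp
    · simp
    · have e : f (f (f (v3 / v2))) * v2 = v3 := by rw [hf3]; field_simp
      simp only [e, mul_zero, tr_zero, add_zero, tr_of_fix f v3 hf3', CharTwo.add_self_eq_zero]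
    · simp [tr_zero]
  have hG1 := c1.mem hG
  have c2 := cj_z2 f hf hq hK v2 z h2 hG1
  have c3 : Cj q (Qt f 0 0 v2 0 0) (Qt f 0 (f v2) 0 0 0) := by
    refine (cj_na f hf hq hK 0 0 v2 0 0).to_Qt f rfl rfl ?_ rfl ?_
    · simp
    · simp [tr_zero]
  exact Good.of_cj ((c1.trans c2).trans c3) (good_short f hf hq hK (f v2) ((map_ne_zero f).mpr h2))

/-- the elements with `v0 = 0`, `v1 ≠ 0`, `v2 = 0` -/
theorem good_B' (v1 v3 z : K) (h1 : v1 ≠ 0) (hG : Qt f 0 v1 0 v3 z ∈ twistedD4 K q) :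
    Good q (Qt f 0 v1 0 v3 z) := by
  have hf3 := f_cube f hf hK
  obtain ⟨-, hf3', hfz⟩ := NF_fix f hf hq hK _ _ _ _ _ hG
  have hN : nm f v1 ≠ 0 := nm_ne_zero f v1 h1
  have hNf : f (nm f v1) = nm f v1 := nm_fix f hf3 v1
  obtain ⟨r, hr, hrr⟩ := sqrt_fix f (v3 / nm f v1) (by rw [map_div₀, hf3', hNf])
  obtain ⟨z', c1⟩ : ∃ z', Cj q (Qt f 0 v1 0 v3 z) (Qt f 0 v1 0 0 z') := by
    refine ⟨_, (cj_At f hf hq hK 0 v1 0 v3 z (r * v1) (map_zero f)).to_Qt f rfl ?_ ?_ ?_ rfl⟩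
    · simp
    · rw [map_mul, hr]
      simp only [mul_zero, add_zero, zero_add]
      have : r * v1 * f v1 + r * f v1 * v1 = (r * v1 * f v1) + (r * v1 * f v1) := by ring
      rw [this, CharTwo.add_self_eq_zero]
    · have e : f (r * v1) * f (f (r * v1)) * v1 = r * r * nm f v1 := by
        simp only [map_mul, hr]
        unfold nm
        ring
      have e2 : r * r * nm f v1 = v3 := by
        rw [hrr]
        field_simp
      simp only [e, e2, mul_zero, tr_zero, add_zero, tr_of_fix f v3 hf3', CharTwo.add_self_eq_zero]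
  have hG1 := c1.mem hG
  have c2 := cj_z1 f hf hq hK v1 z' h1 hG1
  exact Good.of_cj (c1.trans c2) (good_short f hf hq hK v1 h1)

/-- the involutions with `v0 = 0`, `v1 ≠ 0` -/
theorem good_B (v1 v2 v3 z : K) (h1 : v1 ≠ 0) (hG : Qt f 0 v1 v2 v3 z ∈ twistedD4 K q)
    (hinv : Qt f 0 v1 v2 v3 z * Qt f 0 v1 v2 v3 z = 1) : Good q (Qt f 0 v1 v2 v3 z) := by
  have hf3 := f_cube f hf hK
  have htr : tr f (v1 * f v2) = 0 := by
    rw [Qt_mul_self f hf3] at hinv
    have := x23_eq_one _ hinv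
    rwa [zero_mul, zero_add] at this
  have h1' : f v1 ≠ 0 := (map_ne_zero f).mpr h1
  have h1'' : f (f v1) ≠ 0 := (map_ne_zero f).mpr h1'
  have hN : nm f v1 ≠ 0 := nm_ne_zero f v1 h1
  have hNf : f (nm f v1) = nm f v1 := nm_fix f hf3 v1
  have htω : tr f (v2 * f (f v1) / nm f v1) = 0 := by
    have e1 : v2 * f (f v1) / nm f v1 = (nm f v1)⁻¹ * (v2 * f (f v1)) := by field_simp
    have e2 : tr f (v2 * f (f v1)) = tr f (v1 * f v2) := by
      rw [← tr_f f hf3 (v2 * f (f v1)), map_mul, hf3, mul_comm]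
    rw [e1, tr_mul_fix f _ _ (by rw [map_inv₀, hNf]), e2, htr, mul_zero]
  have hr := add_f_of_tr_zero f _ htω
  have e2 : v2 * f (f v1) / nm f v1 * (v1 * f v1) = v2 := by
    unfold nm
    field_simp
  obtain ⟨ω, hω⟩ : ∃ ω, ω = v2 * f (f v1) / nm f v1 := ⟨_, rfl⟩
  rw [← hω] at hr e2
  obtain ⟨v3', z', c1⟩ : ∃ v3' z', Cj q (Qt f 0 v1 v2 v3 z) (Qt f 0 v1 0 v3' z') := by
    refine ⟨_, _, (cj_At f hf hq hK 0 v1 v2 v3 z (f ω * v1) (map_zero f)).to_Qt f rfl ?_ ?_ rfl rfl⟩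
    · simp
    · have hfs : f (f ω * v1) = f (f ω) * f v1 := map_mul f _ _
      rw [hfs, mul_zero, add_zero]
      have e : v2 + f ω * v1 * f v1 + f (f ω) * f v1 * v1 = v2 + (f ω + f (f ω)) * (v1 * f v1) := by ring
      rw [e, hr, e2, CharTwo.add_self_eq_zero]
  exact Good.of_cj c1 (good_B' f hf hq hK v1 v3' z' h1 (c1.mem hG))

/-- the involutions with `v0 ≠ 0` -/
theorem good_A (v0 v1 v2 v3 z : K) (h0 : v0 ≠ 0) (hG : Qt f v0 v1 v2 v3 z ∈ twistedD4 K q)
    (hinv : Qt f v0 v1 v2 v3 z * Qt f v0 v1 v2 v3 z = 1) : Good q (Qt f v0 v1 v2 v3 z) := by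
  have hf3 := f_cube f hf hK
  obtain ⟨hf0, hf3', hfz⟩ := NF_fix f hf hq hK _ _ _ _ _ hG
  obtain ⟨v2', v3', z', c1⟩ : ∃ v2' v3' z', Cj q (Qt f v0 v1 v2 v3 z) (Qt f v0 0 v2' v3' z') := by
    refine ⟨_, _, _, (cj_At f hf hq hK v0 v1 v2 v3 z (v1 / v0) hf0).to_Qt f rfl ?_ rfl rfl rfl⟩
    have : v1 / v0 * v0 = v1 := by field_simp
    rw [this, CharTwo.add_self_eq_zero]
  have hG1 := c1.mem hG
  have hinv1 := c1.mul_self hinv
  have h3 : v3' = 0 := by
    rw [Qt_mul_self f hf3] at hinv1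
    have := x23_eq_one _ hinv1
    rw [zero_mul, tr_zero, add_zero] at this
    exact (mul_eq_zero.mp this).resolve_left h0
  subst h3
  have c2 : Cj q (Qt f v0 0 v2' 0 z') (Qt f 0 (f v2') 0 v0 z') := by
    refine (cj_na f hf hq hK v0 0 v2' 0 z').to_Qt f rfl rfl ?_ rfl ?_
    · simp
    · simp [tr_zero]
  have c3 := c1.trans c2
  have hG3 := c3.mem hG
  by_cases h2 : v2' = 0
  · subst h2
    rw [map_zero] at c3 hG3
    exact Good.of_cj c3 (good_D f hf hq hK v0 z' (Or.inl h0) hG3)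
  · exact Good.of_cj c3 (good_B' f hf hq hK (f v2') v0 z' ((map_ne_zero f).mpr h2) hG3)

/-- the involutions in the radical -/
theorem good_Q (v0 v1 v2 v3 z : K) (hG : Qt f v0 v1 v2 v3 z ∈ twistedD4 K q)
    (hne : Qt f v0 v1 v2 v3 z ≠ 1)
    (hinv : Qt f v0 v1 v2 v3 z * Qt f v0 v1 v2 v3 z = 1) : Good q (Qt f v0 v1 v2 v3 z) := by
  by_cases h0 : v0 = 0
  · subst h0
    by_cases h1 : v1 = 0
    · subst h1
      by_cases h2 : v2 = 0
      · subst h2
        refine good_D f hf hq hK v3 z ?_ hG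
        by_contra hcon
        rw [not_or, not_not, not_not] at hcon
        apply hne
        rw [hcon.1, hcon.2, Qt_zero]
      · exact good_C f hf hq hK v2 v3 z h2 hG
    · exact good_B f hf hq hK v1 v2 v3 z h1 hG hinv
  · exact good_A f hf hq hK v0 v1 v2 v3 z h0 hG hinv

/-! ### the involutions outside the radical -/

/-- the conditions for `x_a(s) u`, `u` in the radical, to be an involution -/
theorem inv_E (s v0 v1 v2 v3 z : K) (hs : s ≠ 0) (h0 : f v0 = v0)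
    (hinv : (At f s * Qt f v0 v1 v2 v3 z) * (At f s * Qt f v0 v1 v2 v3 z) = 1) :
    v0 = 0 ∧ s * f v1 + f s * v1 = 0 ∧ tr f (f (f s) * v2) + tr f (f s * f (f s) * v1) = 0 := by
  have hf3 := f_cube f hf hK
  have e : (At f s * Qt f v0 v1 v2 v3 z) * (At f s * Qt f v0 v1 v2 v3 z) =
      Qt f v0 (v1 + s * v0) (v2 + s * f v1 + f s * v1 + s * f s * v0)
        (v3 + tr f (f (f s) * v2) + tr f (f s * f (f s) * v1) + nm f s * v0)
        (z + tr f (f (f s) * v1 * f v1) + v0 * tr f (f s * f (f s) * v1) + nm f s * v0 ^ 2) *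
        Qt f v0 v1 v2 v3 z := by
    calc (At f s * Qt f v0 v1 v2 v3 z) * (At f s * Qt f v0 v1 v2 v3 z)
        = At f s * (Qt f v0 v1 v2 v3 z * At f s) * Qt f v0 v1 v2 v3 z := by group
      _ = (At f s * At f s) * Qt f v0 (v1 + s * v0) (v2 + s * f v1 + f s * v1 + s * f s * v0)
            (v3 + tr f (f (f s) * v2) + tr f (f s * f (f s) * v1) + nm f s * v0)
            (z + tr f (f (f s) * v1 * f v1) + v0 * tr f (f s * f (f s) * v1) + nm f s * v0 ^ 2) *
            Qt f v0 v1 v2 v3 z := by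
          rw [Qt_mul_At f hf3 _ _ _ _ _ _ h0]
          group
      _ = _ := by rw [At_mul_self, one_mul]
  rw [e, Qt_mul_Qt f hf3] at hinv
  unfold Qt at hinv
  obtain ⟨-, h19, -, -, h21, -, -, h22, -⟩ := NF_one _ _ _ _ _ _ _ _ _ hinv
  have hv0 : v0 = 0 := by
    have h : s * v0 = 0 := by
      have : v1 + s * v0 + v1 = s * v0 + (v1 + v1) := by ring
      rw [this, CharTwo.add_self_eq_zero, add_zero] at h19
      exact h19
    exact (mul_eq_zero.mp h).resolve_left hs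
  subst hv0
  refine ⟨rfl, ?_, ?_⟩
  · have : v2 + s * f v1 + f s * v1 + s * f s * 0 + v2 = s * f v1 + f s * v1 + (v2 + v2) := by ring
    rw [this, CharTwo.add_self_eq_zero, add_zero] at h21
    exact h21
  · have : v3 + tr f (f (f s) * v2) + tr f (f s * f (f s) * v1) + nm f s * 0 + v3 =
        tr f (f (f s) * v2) + tr f (f s * f (f s) * v1) + (v3 + v3) := by ring
    rw [this, CharTwo.add_self_eq_zero, add_zero] at h22
    exact h22

/-- conjugation of `x_a(s) u` by an element of the radical -/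
theorem cj_AQ (s v0 v1 v2 v3 z w0 w1 w2 w3 y v0' v1' v2' v3' z' : K) (hw0 : f w0 = w0)
    (hy : Qt f w0 w1 w2 w3 y ∈ twistedD4 K q)
    (e : Qt f (v0 + w0) (v1 + w1) (v2 + w2) (v3 + w3) (z + y + v3 * w0 + tr f (w1 * f v2)) =
      Qt f (w0 + v0') (w1 + s * w0 + v1') (w2 + s * f w1 + f s * w1 + s * f s * w0 + v2')
        (w3 + tr f (f (f s) * w2) + tr f (f s * f (f s) * w1) + nm f s * w0 + v3')
        (y + tr f (f (f s) * w1 * f w1) + w0 * tr f (f s * f (f s) * w1) + nm f s * w0 ^ 2 + z' +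
          (w3 + tr f (f (f s) * w2) + tr f (f s * f (f s) * w1) + nm f s * w0) * v0' +
          tr f (v1' * f (w2 + s * f w1 + f s * w1 + s * f s * w0)))) :
    Cj q (At f s * Qt f v0 v1 v2 v3 z) (At f s * Qt f v0' v1' v2' v3' z') := by
  have hf3 := f_cube f hf hK
  apply Cj.of_mul_eq hy
  calc At f s * Qt f v0 v1 v2 v3 z * Qt f w0 w1 w2 w3 y
      = At f s * (Qt f v0 v1 v2 v3 z * Qt f w0 w1 w2 w3 y) := mul_assoc _ _ _
    _ = At f s * Qt f (v0 + w0) (v1 + w1) (v2 + w2) (v3 + w3) (z + y + v3 * w0 + tr f (w1 * f v2)) := by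
        rw [Qt_mul_Qt f hf3]
    _ = At f s * (Qt f w0 (w1 + s * w0) (w2 + s * f w1 + f s * w1 + s * f s * w0)
          (w3 + tr f (f (f s) * w2) + tr f (f s * f (f s) * w1) + nm f s * w0)
          (y + tr f (f (f s) * w1 * f w1) + w0 * tr f (f s * f (f s) * w1) + nm f s * w0 ^ 2) *
          Qt f v0' v1' v2' v3' z') := by
        rw [Qt_mul_Qt f hf3, e]
    _ = (At f s * Qt f w0 (w1 + s * w0) (w2 + s * f w1 + f s * w1 + s * f s * w0)
          (w3 + tr f (f (f s) * w2) + tr f (f s * f (f s) * w1) + nm f s * w0)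
          (y + tr f (f (f s) * w1 * f w1) + w0 * tr f (f s * f (f s) * w1) + nm f s * w0 ^ 2)) *
          Qt f v0' v1' v2' v3' z' := (mul_assoc _ _ _).symm
    _ = (Qt f w0 w1 w2 w3 y * At f s) * Qt f v0' v1' v2' v3' z' := by
        rw [Qt_mul_At f hf3 _ _ _ _ _ _ hw0]
    _ = Qt f w0 w1 w2 w3 y * (At f s * Qt f v0' v1' v2' v3' z') := mul_assoc _ _ _

/-- first step: the component at `a + b` is removed by `x_b(c)` -/
theorem cj_E1 (s c v2 v3 z : K) (hc : f c = c) :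
    Cj q (At f s * Qt f 0 (c * s) v2 v3 z)
      (At f s * Qt f 0 0 (v2 + s * f s * c) (v3 + nm f s * c) (z + v3 * c + nm f s * c ^ 2)) := by
  have hy : Qt f c 0 0 0 0 ∈ twistedD4 K q := NF_mem f hf hq hK _ _ _ _ _ hc (map_zero f) (map_zero f)
  have h2 : (2 : K) = 0 := CharTwo.two_eq_zero
  apply cj_AQ f hf hq hK s 0 (c * s) v2 v3 z c 0 0 0 0 _ _ _ _ _ hc hy
  apply Qt_congr
  · ring
  · ring
  · simp only [map_zero, mul_zero, zero_mul, add_zero, zero_add]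
    linear_combination (-(s * f s * c)) * h2
  · simp only [map_zero, mul_zero, zero_mul, add_zero, zero_add, tr_zero]
    linear_combination (-(nm f s * c)) * h2
  · simp only [map_zero, mul_zero, zero_mul, add_zero, zero_add, tr_zero]
    linear_combination (-(nm f s * c ^ 2)) * h2

/-- second step: the component at `2a + b` is removed by an element of `X_{a+b}` -/
theorem cj_E2 (s r v3 z : K) :
    ∃ v3' z', Cj q (At f s * Qt f 0 0 (s * f s * (r + f r)) v3 z) (At f s * Qt f 0 0 0 v3' z') := by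
  have hy : Qt f 0 (r * s) 0 0 0 ∈ twistedD4 K q :=
    NF_mem f hf hq hK _ _ _ _ _ (map_zero f) (map_zero f) (map_zero f)
  have h2 : (2 : K) = 0 := CharTwo.two_eq_zero
  refine ⟨v3 + tr f (f s * f (f s) * (r * s)),
    z + tr f (r * s * f (s * f s * (r + f r))) + tr f (f (f s) * (r * s) * f (r * s)), ?_⟩
  apply cj_AQ f hf hq hK s 0 0 (s * f s * (r + f r)) v3 z 0 (r * s) 0 0 0 _ _ _ _ _ (map_zero f) hy
  apply Qt_congr
  · ring
  · ring
  · simp only [map_zero, map_mul, mul_zero, zero_mul, add_zero, zero_add]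
    ring
  · simp only [map_zero, mul_zero, zero_mul, add_zero, zero_add, tr_zero]
    linear_combination (-(tr f (f s * f (f s) * (r * s)))) * h2
  · simp only [map_zero, mul_zero, zero_mul, add_zero, zero_add, tr_zero]
    linear_combination (-(tr f (f (f s) * (r * s) * f (r * s)))) * h2

/-- third step: the component at `3a + b` is removed by an element of `X_{2a+b}` -/
theorem cj_E3 (s v3 z : K) (hs : s ≠ 0) (h3 : f v3 = v3) :
    Cj q (At f s * Qt f 0 0 0 v3 z) (At f s * Qt f 0 0 0 0 z) := by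
  have hf3 := f_cube f hf hK
  have hy : Qt f 0 0 (v3 / f (f s)) 0 0 ∈ twistedD4 K q :=
    NF_mem f hf hq hK _ _ _ _ _ (map_zero f) (map_zero f) (map_zero f)
  have hs'' : f (f s) ≠ 0 := (map_ne_zero f).mpr ((map_ne_zero f).mpr hs)
  apply cj_AQ f hf hq hK s 0 0 0 v3 z 0 0 (v3 / f (f s)) 0 0 _ _ _ _ _ (map_zero f) hy
  have e : f (f s) * (v3 / f (f s)) = v3 := by field_simp
  apply Qt_congr
  · ring
  · ring
  · simp only [map_zero, mul_zero, zero_mul, add_zero, zero_add]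
  · simp only [e, map_zero, mul_zero, zero_mul, add_zero, zero_add, tr_zero, tr_of_fix f v3 h3]
  · simp only [map_zero, mul_zero, zero_mul, add_zero, zero_add, tr_zero]
    ring

omit [Fintype K] [CharP K 2] in
omit hq hK in
theorem Qt_mem_of_At_mul (s v0 v1 v2 v3 z : K) (h : At f s * Qt f v0 v1 v2 v3 z ∈ twistedD4 K q) :
    Qt f v0 v1 v2 v3 z ∈ twistedD4 K q := by
  have e : Qt f v0 v1 v2 v3 z = (At f s)⁻¹ * (At f s * Qt f v0 v1 v2 v3 z) := by group
  rw [e]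
  exact mul_mem (inv_mem (At_mem f hf s)) h

/-- the involutions of `U¹` outside the radical -/
theorem good_E (s v0 v1 v2 v3 z : K) (hs : s ≠ 0) (hG : At f s * Qt f v0 v1 v2 v3 z ∈ twistedD4 K q)
    (hinv : (At f s * Qt f v0 v1 v2 v3 z) * (At f s * Qt f v0 v1 v2 v3 z) = 1) :
    Good q (At f s * Qt f v0 v1 v2 v3 z) := by
  have hf3 := f_cube f hf hK
  have hs' : f s ≠ 0 := (map_ne_zero f).mpr hs
  have hs'' : f (f s) ≠ 0 := (map_ne_zero f).mpr hs'
  have hN : nm f s ≠ 0 := nm_ne_zero f s hs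
  have hNf : f (nm f s) = nm f s := nm_fix f hf3 s
  obtain ⟨hf0, -, -⟩ := NF_fix f hf hq hK _ _ _ _ _ (Qt_mem_of_At_mul f hf s _ _ _ _ _ hG)
  obtain ⟨hv0, hcomm, -⟩ := inv_E f hf hq hK s v0 v1 v2 v3 z hs hf0 hinv
  subst hv0
  have hcomm' : s * f v1 = f s * v1 := CharTwo.add_eq_zero.mp hcomm
  have hc : f (v1 / s) = v1 / s := by
    rw [map_div₀, div_eq_div_iff hs' hs]
    rw [mul_comm, hcomm', mul_comm]
  have hv1 : v1 = v1 / s * s := by field_simp
  obtain ⟨c, hcdef⟩ : ∃ c, c = v1 / s := ⟨_, rfl⟩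
  rw [← hcdef] at hc hv1
  rw [hv1] at hG hinv ⊢
  -- first step
  have c1 := cj_E1 f hf hq hK s c v2 v3 z hc
  have hG1 := c1.mem hG
  have hinv1 := c1.mul_self hinv
  obtain ⟨-, -, htr1⟩ := inv_E f hf hq hK s 0 0 _ _ _ hs (map_zero f) hinv1
  rw [mul_zero, tr_zero, add_zero] at htr1
  -- second step
  obtain ⟨ω, hω⟩ : ∃ ω, ω = (v2 + s * f s * c) / (s * f s) := ⟨_, rfl⟩
  have htω : tr f ω = 0 := by
    have e1 : ω = (nm f s)⁻¹ * (f (f s) * (v2 + s * f s * c)) := by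
      rw [hω]
      unfold nm
      field_simp
    rw [e1, tr_mul_fix f _ _ (by rw [map_inv₀, hNf]), htr1, mul_zero]
  have hr := add_f_of_tr_zero f ω htω
  have e2 : v2 + s * f s * c = s * f s * (f ω + f (f ω)) := by
    rw [hr, hω]
    field_simp
  rw [e2] at c1 hG1
  obtain ⟨v3'', z'', c2⟩ := cj_E2 f hf hq hK s (f ω) (v3 + nm f s * c) (z + v3 * c + nm f s * c ^ 2)
  have hG2 := c2.mem hG1
  -- third step
  obtain ⟨-, h3'', -⟩ := NF_fix f hf hq hK _ _ _ _ _ (Qt_mem_of_At_mul f hf s _ _ _ _ _ hG2)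
  have c3 := cj_E3 f hf hq hK s v3'' z'' hs h3''
  rw [Qt_23] at c3
  have c4 := cj_nb_E f hf hq hK s z''
  have c := ((c1.trans c2).trans c3).trans c4
  exact Good.of_cj c (good_B' f hf hq hK s z'' 0 hs (c.mem hG))

/-- the involutions of `U¹` -/
theorem good_U (u : GL chevD4.Idx K) (hu : u ∈ chevD4.posUnipotent K) (hG : u ∈ twistedD4 K q) (hne : u ≠ 1)
    (hinv : u * u = 1) : Good q u := by
  obtain ⟨s, v0, v1, v2, v3, z, rfl⟩ := NF_exists f hf hq hK u hu hG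
  by_cases hs : s = 0
  · subst hs
    rw [At_zero, one_mul] at hG hne hinv ⊢
    exact good_Q f hf hq hK v0 v1 v2 v3 z hG hne hinv
  · exact good_E f hf hq hK s v0 v1 v2 v3 z hs hG hinv

/-- the involutions of `³D₄(q)` -/
theorem good_G (g : GL chevD4.Idx K) (hg : g ∈ twistedD4 K q) (hne : g ≠ 1) (hinv : g * g = 1) : Good q g := by
  obtain ⟨k, hk, hku⟩ := sylow_conj hq hK g hg hinv
  have c : Cj q g (k * g * k⁻¹) := ⟨k, hk, rfl⟩
  exact Good.of_cj c (good_U f hf hq hK _ hku (c.mem hg) (c.ne_one hne) (c.mul_self hinv))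

end

end Cfsg.Agent.Helper36.D4Inv
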